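import Mathlib.Algebra.Polynomial.Coeff
import Mathlib.Algebra.Polynomial.Degree.Operations
import Mathlib.Algebra.CharP.Lemmas
import Mathlib.Algebra.CharP.Algebra
import Mathlib.FieldTheory.Perfect
import Mathlib.RingTheory.Adjoin.Basic
import Mathlib.Data.Fin.SuccPred

/-!
# Additive polynomials: elimination of linear relations over `k{F}`

`ev p x q = ∑ j, q_j x^(p^j)`.  Over a perfect field of characteristic `p`, a finite tuple of elements
of a "torsion-free" `k{F}`-stable set `S` in a commutative algebra can be replaced by a tuple without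
relations generating at least the same algebra.
-/

set_option autoImplicit false

namespace Groth.Agent.Agf.H621.AddEv

open Polynomial Finset

variable {k : Type*} [Field k] {A : Type*} [CommRing A] [Algebra k A] (p : ℕ)

/-- `ev p x q = ∑ j, q_j x^(p^j)`. -/
noncomputable def ev (x : A) : k[X] →ₗ[k] A :=
  Polynomial.lsum fun j => LinearMap.toSpanSingleton k A (x ^ p ^ j)

lemma ev_monomial (x : A) (j : ℕ) (c : k) : ev p x (monomial j c) = c • x ^ p ^ j := by
  simp [ev, Polynomial.lsum]

lemma ev_eq_sum (x : A) (q : k[X]) : ev p x q = q.sum fun j c => c • x ^ p ^ j := rfl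

section

variable [hp : Fact p.Prime] [CharP k p]

omit [CharP k p] in
include hp in
lemma ev_zero (q : k[X]) : ev p (0 : A) q = 0 := by
  induction q using Polynomial.induction_on' with
  | add q r hq hr => rw [map_add, hq, hr, add_zero]
  | monomial j c =>
    rw [ev_monomial, zero_pow (pow_ne_zero _ hp.out.ne_zero), smul_zero]

lemma ev_add (x y : A) (q : k[X]) : ev p (x + y) q = ev p x q + ev p y q := by
  nontriviality A
  have : CharP A p := charP_of_injective_ringHom (algebraMap k A).injective p
  induction q using Polynomial.induction_on' with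
  | add q r hq hr => rw [map_add, hq, hr, map_add, map_add]; abel
  | monomial j c => rw [ev_monomial, ev_monomial, ev_monomial, add_pow_char_pow, smul_add]

/-- The polynomial `r` with `r(F) = q(F) ∘ (c F^e)`. -/
noncomputable def tw (c : k) (e : ℕ) : k[X] →ₗ[k] k[X] :=
  Polynomial.lsum fun l => (monomial (e + l)).comp (LinearMap.mulRight k (c ^ p ^ l))

omit hp [CharP k p] in
lemma tw_monomial (c : k) (e l : ℕ) (a : k) :
    tw p c e (monomial l a) = monomial (e + l) (a * c ^ p ^ l) := by
  simp [tw, Polynomial.lsum]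

omit hp [CharP k p] in
lemma ev_tw (x : A) (c : k) (e : ℕ) (q : k[X]) :
    ev p (c • x ^ p ^ e) q = ev p x (tw p c e q) := by
  induction q using Polynomial.induction_on' with
  | add q r hq hr => rw [map_add, hq, hr, map_add, map_add]
  | monomial j a =>
    rw [ev_monomial, tw_monomial, ev_monomial, smul_pow, ← pow_mul, ← pow_add, smul_smul]

omit hp [CharP k p] in
lemma coeff_tw (c : k) (e : ℕ) (q : k[X]) (n : ℕ) :
    (tw p c e q).coeff (e + n) = q.coeff n * c ^ p ^ n := by
  induction q using Polynomial.induction_on' with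
  | add q r hq hr => rw [map_add, coeff_add, hq, hr, coeff_add, add_mul]
  | monomial l a =>
    rw [tw_monomial, coeff_monomial, coeff_monomial]
    by_cases h : l = n
    · subst h; simp
    · rw [if_neg (by omega), if_neg h, zero_mul]

omit hp [CharP k p] in
lemma coeff_tw_lt (c : k) (e : ℕ) (q : k[X]) (n : ℕ) (h : n < e) : (tw p c e q).coeff n = 0 := by
  induction q using Polynomial.induction_on' with
  | add q r hq hr => rw [map_add, coeff_add, hq, hr, add_zero]
  | monomial l a => rw [tw_monomial, coeff_monomial, if_neg (by omega)]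

omit hp [CharP k p] in
/-- Lowering the degree. -/
lemma sub_tw_degree {q r : k[X]} (c : k) (e : ℕ)
    (hd : e + r.natDegree = q.natDegree)
    (hc : r.leadingCoeff * c ^ p ^ r.natDegree = q.leadingCoeff) :
    q - tw p c e r = 0 ∨ (q - tw p c e r).natDegree < q.natDegree := by
  by_cases h0 : q - tw p c e r = 0
  · exact Or.inl h0
  right
  have hle : (q - tw p c e r).natDegree ≤ q.natDegree := by
    rw [natDegree_le_iff_coeff_eq_zero]
    intro n hn
    rw [coeff_sub, coeff_eq_zero_of_natDegree_lt hn, zero_sub, neg_eq_zero]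
    obtain ⟨m, rfl⟩ : ∃ m, n = e + m := ⟨n - e, by omega⟩
    rw [coeff_tw, coeff_eq_zero_of_natDegree_lt (by omega), zero_mul]
  refine lt_of_le_of_ne hle fun heq => ?_
  have h1 : (q - tw p c e r).coeff q.natDegree = 0 := by
    rw [coeff_sub, ← hd, coeff_tw, hd]
    change q.leadingCoeff - r.leadingCoeff * _ = 0
    rw [hc, sub_self]
  rw [← heq] at h1
  exact h0 (leadingCoeff_eq_zero.1 h1)

/-- The measure of a relation. -/
noncomputable def meas {n : ℕ} (q : Fin n → k[X]) : ℕ :=
  ∑ i, (open Classical in if q i = 0 then 0 else (q i).natDegree + 1)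

/-- Elimination of relations over a perfect field. -/
theorem exists_indep [PerfectRing k p] (S : Set A)
    (hadd : ∀ x ∈ S, ∀ y ∈ S, x + y ∈ S) (hsmul : ∀ (c : k), ∀ x ∈ S, c • x ∈ S)
    (hpow : ∀ x ∈ S, x ^ p ∈ S) (htf : ∀ x ∈ S, ∀ q : k[X], q ≠ 0 → ev p x q = 0 → x = 0)
    (B : Subalgebra k A) (n₀ : ℕ) (x₀ : Fin n₀ → A) (hx₀ : ∀ i, x₀ i ∈ S)
    (hB : B ≤ Algebra.adjoin k (Set.range x₀)) :
    ∃ (n : ℕ) (y : Fin n → A), (∀ i, y i ∈ S) ∧ B ≤ Algebra.adjoin k (Set.range y) ∧
      ∀ q : Fin n → k[X], ∑ i, ev p (y i) (q i) = 0 → q = 0 := by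
  classical
  have hpow' : ∀ (e : ℕ), ∀ x ∈ S, x ^ p ^ e ∈ S := by
    intro e
    induction e with
    | zero => intro x hx; simpa using hx
    | succ e ih => intro x hx; rw [pow_succ, pow_mul]; exact hpow _ (ih x hx)
  have hex : ∃ n, ∃ y : Fin n → A, (∀ i, y i ∈ S) ∧ B ≤ Algebra.adjoin k (Set.range y) :=
    ⟨n₀, x₀, hx₀, hB⟩
  set n := Nat.find hex with hn
  by_contra hcon
  push Not at hcon
  -- relations exist for all tuples of length `n`
  have hrel : ∀ y : Fin n → A, (∀ i, y i ∈ S) → B ≤ Algebra.adjoin k (Set.range y) →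
      ∃ q : Fin n → k[X], ∑ i, ev p (y i) (q i) = 0 ∧ q ≠ 0 := fun y h1 h2 => hcon n y h1 h2
  have hex2 : ∃ d, ∃ (y : Fin n → A) (q : Fin n → k[X]), (∀ i, y i ∈ S) ∧
      B ≤ Algebra.adjoin k (Set.range y) ∧ ∑ i, ev p (y i) (q i) = 0 ∧ q ≠ 0 ∧ meas q = d := by
    obtain ⟨y, h1, h2⟩ := Nat.find_spec hex
    obtain ⟨q, h3, h4⟩ := hrel y h1 h2
    exact ⟨_, y, q, h1, h2, h3, h4, rfl⟩
  obtain ⟨y, q, hyS, hyB, hyq, hq0, hmeas⟩ := Nat.find_spec hex2
  have hmin := fun d (h : d < Nat.find hex2) => Nat.find_min hex2 h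
  rw [← hmeas] at hmin
  obtain ⟨i₀, hi₀⟩ : ∃ i, q i ≠ 0 := by
    by_contra h
    push Not at h
    exact hq0 (funext h)
  by_cases htwo : ∃ j, j ≠ i₀ ∧ q j ≠ 0
  · -- two indices
    obtain ⟨j₀, hj₀, hqj₀⟩ := htwo
    obtain ⟨i, j, hij, hqi, hqj, hdeg⟩ : ∃ i j, j ≠ i ∧ q i ≠ 0 ∧ q j ≠ 0 ∧
        (q j).natDegree ≤ (q i).natDegree := by
      rcases le_total (q j₀).natDegree (q i₀).natDegree with h | h
      · exact ⟨i₀, j₀, hj₀, hi₀, hqj₀, h⟩
      · exact ⟨j₀, i₀, hj₀.symm, hqj₀, hi₀, h⟩
    obtain ⟨e, he⟩ := Nat.exists_eq_add_of_le' hdeg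
    have hpe : 0 < p := hp.out.pos
    have : ExpChar k p := ExpChar.prime hp.out
    obtain ⟨c, hc⟩ := (iterateFrobeniusEquiv k p (q j).natDegree).surjective
      ((q i).leadingCoeff / (q j).leadingCoeff)
    rw [iterateFrobeniusEquiv_apply, iterateFrobenius_def] at hc
    have hlj : (q j).leadingCoeff ≠ 0 := leadingCoeff_ne_zero.2 hqj
    have hc' : (q j).leadingCoeff * c ^ p ^ (q j).natDegree = (q i).leadingCoeff := by
      rw [hc, mul_div_cancel₀ _ hlj]
    have hlow := sub_tw_degree p c e he.symm hc'
    set y' : Fin n → A := Function.update y j (y j + c • y i ^ p ^ e) with hy'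
    set q' : Fin n → k[X] := Function.update q i (q i - tw p c e (q j)) with hq'
    have hy'i : y' i = y i := by rw [hy', Function.update_of_ne hij.symm]
    have hy'j : y' j = y j + c • y i ^ p ^ e := by rw [hy', Function.update_self]
    have hq'j : q' j = q j := by rw [hq', Function.update_of_ne hij]
    have hq'i : q' i = q i - tw p c e (q j) := by rw [hq', Function.update_self]
    refine hmin (meas q') ?_ ⟨y', q', ?_, ?_, ?_, ?_, rfl⟩
    · refine Finset.sum_lt_sum (f := fun l => if q' l = 0 then 0 else (q' l).natDegree + 1)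
        (g := fun l => if q l = 0 then 0 else (q l).natDegree + 1) (fun l _ => ?_)
        ⟨i, Finset.mem_univ i, ?_⟩
      · change (if q' l = 0 then 0 else (q' l).natDegree + 1) ≤
          (if q l = 0 then 0 else (q l).natDegree + 1)
        by_cases hl : l = i
        · subst hl
          rw [hq'i, if_neg hqi]
          split_ifs with h
          · exact Nat.zero_le _
          · rcases hlow with h' | h'
            · exact absurd h' h
            · omega
        · rw [hq', Function.update_of_ne hl]
      · change (if q' i = 0 then 0 else (q' i).natDegree + 1) <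
          (if q i = 0 then 0 else (q i).natDegree + 1)
        rw [hq'i, if_neg hqi]
        split_ifs with h
        · exact Nat.succ_pos _
        · rcases hlow with h' | h'
          · exact absurd h' h
          · omega
    · intro l
      by_cases hl : l = j
      · subst hl
        rw [hy'j]
        exact hadd _ (hyS _) _ (hsmul _ _ (hpow' _ _ (hyS _)))
      · rw [hy', Function.update_of_ne hl]
        exact hyS l
    · refine hyB.trans (Algebra.adjoin_le ?_)
      rintro _ ⟨l, rfl⟩
      by_cases hl : l = j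
      · subst hl
        have h1 : y l = y' l - c • y' i ^ p ^ e := by rw [hy'j, hy'i, add_sub_cancel_right]
        rw [h1]
        have h2 : y' i ∈ Algebra.adjoin k (Set.range y') := Algebra.subset_adjoin ⟨i, rfl⟩
        have h3 : y' l ∈ Algebra.adjoin k (Set.range y') := Algebra.subset_adjoin ⟨l, rfl⟩
        exact Subalgebra.sub_mem _ h3 (Subalgebra.smul_mem _ (Subalgebra.pow_mem _ h2 _) _)
      · have h1 : y l = y' l := by rw [hy', Function.update_of_ne hl]
        rw [h1]
        exact Algebra.subset_adjoin ⟨l, rfl⟩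
    · have h1 : ∀ l, ev p (y' l) (q' l) = ev p (y l) (q l) +
          (if l = j then ev p (y i) (tw p c e (q j)) else 0) -
          (if l = i then ev p (y i) (tw p c e (q j)) else 0) := by
        intro l
        by_cases hl : l = j
        · subst hl
          rw [if_pos rfl, if_neg hij, hy'j, hq'j, ev_add, ev_tw, sub_zero]
        · by_cases hl' : l = i
          · subst hl'
            rw [if_neg hl, if_pos rfl, hy'i, hq'i, map_sub, add_zero]
          · rw [if_neg hl, if_neg hl', hy', hq', Function.update_of_ne hl,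
              Function.update_of_ne hl', add_zero, sub_zero]
      rw [Finset.sum_congr rfl fun l _ => h1 l, Finset.sum_sub_distrib, Finset.sum_add_distrib, hyq,
        Finset.sum_ite_eq' univ j, Finset.sum_ite_eq' univ i, if_pos (Finset.mem_univ _),
        if_pos (Finset.mem_univ _), zero_add, sub_self]
    · intro h
      apply hqj
      rw [← hq'j, h]
      rfl
  · -- one index
    push Not at htwo
    have h1 : ev p (y i₀) (q i₀) = 0 := by
      rw [← hyq, Finset.sum_eq_single i₀]
      · intro l _ hl
        rw [htwo l hl, map_zero]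
      · intro h
        exact absurd (Finset.mem_univ _) h
    have h2 : y i₀ = 0 := htf _ (hyS _) _ hi₀ h1
    obtain ⟨n', hn'⟩ : ∃ n', n = n' + 1 := by
      cases hnn : n with
      | zero => rw [hnn] at i₀; exact i₀.elim0
      | succ n' => exact ⟨n', rfl⟩
    refine Nat.find_min hex (m := n') (by omega) ?_
    clear_value n
    subst hn'
    refine ⟨fun l => y (i₀.succAbove l), fun l => hyS _, hyB.trans (Algebra.adjoin_le ?_)⟩
    rintro _ ⟨l, rfl⟩
    by_cases hl : l = i₀
    · rw [hl, h2]
      exact Subalgebra.zero_mem _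
    · obtain ⟨l', rfl⟩ := Fin.exists_succAbove_eq hl
      exact Algebra.subset_adjoin ⟨l', rfl⟩

end

end Groth.Agent.Agf.H621.AddEv
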