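import Mathlib.Data.Nat.Choose.Lucas
import Mathlib.Algebra.Field.Basic
import Mathlib.Algebra.CharP.Basic
import Mathlib.Tactic.LinearCombination

/-!
# Multi-binomial coefficients modulo `p` and symmetric 2-cocycles

`mch d a = ∏ i, (d i).choose (a i)`.  The theorem `comb`: the homogeneous component (of multidegree `d`)
of a symmetric 2-cocycle of polynomials in characteristic `p`, subject to a normalisation coming from
`p`-torsion, is a multiple of the multi-binomial coefficients, that is, a coboundary.
-/

set_option autoImplicit false

namespace Groth.Agent.Agf.H621.MChoose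

open Finset

variable {ι : Type*} [Fintype ι]

/-- Multi-binomial coefficient. -/
def mch (d a : ι → ℕ) : ℕ := ∏ i, (d i).choose (a i)

lemma mch_zero (d : ι → ℕ) : mch d 0 = 1 := by simp [mch]

lemma mch_self (d : ι → ℕ) : mch d d = 1 := by simp [mch]

lemma mch_symm {d a b : ι → ℕ} (h : a + b = d) : mch d a = mch d b := by
  subst h
  refine Finset.prod_congr rfl fun i _ => ?_
  exact Nat.choose_symm_add

variable [DecidableEq ι]

lemma mch_succ_right (b : ι → ℕ) (i : ι) : mch (b + Pi.single i 1) b = b i + 1 := by
  rw [mch, Finset.prod_eq_single i]
  · simp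
  · intro j _ hj
    simp [hj]
  · simp

/-- `(d - e_i choose a) d_i = (d choose a) (d_i - a_i)`, with `d = e + e_i`. -/
lemma mch_mul {d e a b : ι → ℕ} {i : ι} (hd : e + Pi.single i 1 = d) (h : a + b = d) :
    mch e a * d i = mch d a * b i := by
  have hdi : e i + 1 = d i := by
    have := congrFun hd i
    simpa using this
  have hdj : ∀ j, j ≠ i → e j = d j := by
    intro j hj
    have := congrFun hd j
    simpa [hj] using this
  rw [mch, mch, ← Finset.mul_prod_erase univ (fun j => (e j).choose (a j)) (Finset.mem_univ i),
    ← Finset.mul_prod_erase univ (fun j => (d j).choose (a j)) (Finset.mem_univ i)]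
  have h1 : ∏ j ∈ univ.erase i, (d j).choose (a j) = ∏ j ∈ univ.erase i, (e j).choose (a j) := by
    refine Finset.prod_congr rfl fun j hj => ?_
    rw [hdj j (Finset.mem_erase.1 hj).1]
  have h2 := Nat.choose_mul_succ_eq (e i) (a i)
  have h3 : a i + b i = d i := congrFun h i
  have h4 : e i + 1 - a i = b i := by omega
  rw [h4, hdi] at h2
  rw [h1]
  calc ((e i).choose (a i) * ∏ j ∈ univ.erase i, (e j).choose (a j)) * d i
      = ((e i).choose (a i) * d i) * ∏ j ∈ univ.erase i, (e j).choose (a j) := by ring
    _ = ((d i).choose (a i) * b i) * ∏ j ∈ univ.erase i, (e j).choose (a j) := by rw [h2]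
    _ = _ := by ring

section char

variable {k : Type*} [Field k] (p : ℕ) [hp : Fact p.Prime] [CharP k p]

omit hp in
lemma cast_eq_of_modEq {m n : ℕ} (h : m ≡ n [MOD p]) : (m : k) = n :=
  (CharP.natCast_eq_natCast k p).2 h

omit [DecidableEq ι] in
lemma mch_smul_cast (d a : ι → ℕ) : (mch (p • d) (p • a) : k) = mch d a := by
  rw [mch, mch, Nat.cast_prod, Nat.cast_prod]
  refine Finset.prod_congr rfl fun i _ => ?_
  apply cast_eq_of_modEq p
  simp only [Pi.smul_apply, smul_eq_mul]
  exact Choose.choose_mul_mul_modEq_choose_nat

omit [DecidableEq ι] in
/-- If all `d i` are divisible by `p` and some `a j` is not, then `(d choose a) = 0` in `k`. -/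
lemma mch_cast_eq_zero {d a : ι → ℕ} {j : ι} (hd : p ∣ d j) (ha : ¬ p ∣ a j) :
    (mch d a : k) = 0 := by
  rw [mch, Nat.cast_prod]
  refine Finset.prod_eq_zero (Finset.mem_univ j) ?_
  have h1 : (d j).choose (a j) ≡ (d j % p).choose (a j % p) * (d j / p).choose (a j / p) [MOD p] :=
    Choose.choose_modEq_choose_mod_mul_choose_div_nat
  have h2 : (d j % p).choose (a j % p) = 0 := by
    rw [Nat.mod_eq_zero_of_dvd hd]
    refine Nat.choose_eq_zero_of_lt (Nat.pos_of_ne_zero fun h => ha (Nat.dvd_of_mod_eq_zero h))
  rw [h2, zero_mul] at h1
  rw [cast_eq_of_modEq (k := k) p h1, Nat.cast_zero]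

/-- `(pe - 1 choose pe - p) = 1` modulo `p`. -/
lemma choose_cast_eq_one {n : ℕ} (hn : p ∣ n) (hn0 : n ≠ 0) :
    (((n - 1).choose (n - p) : ℕ) : k) = 1 := by
  obtain ⟨e, rfl⟩ := hn
  have hp0 : 0 < p := hp.out.pos
  have he : e ≠ 0 := by rintro rfl; simp at hn0
  obtain ⟨e, rfl⟩ := Nat.exists_eq_succ_of_ne_zero he
  have h1 : p * (e + 1) - 1 = (p - 1) + p * e := by
    rw [mul_add, mul_one]; omega
  have h2 : p * (e + 1) - p = p * e := by
    rw [mul_add, mul_one]; omega
  rw [Nat.succ_eq_add_one, h1, h2]
  have h3 : ((p - 1) + p * e).choose (p * e) ≡ (((p - 1) + p * e) % p).choose ((p * e) % p) *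
      (((p - 1) + p * e) / p).choose ((p * e) / p) [MOD p] :=
    Choose.choose_modEq_choose_mod_mul_choose_div_nat
  rw [Nat.mul_mod_right, Nat.choose_zero_right, one_mul, Nat.add_mul_div_left _ _ hp0,
    Nat.mul_div_cancel_left _ hp0, Nat.div_eq_of_lt (by omega), zero_add, Nat.choose_self] at h3
  rw [cast_eq_of_modEq (k := k) p h3, Nat.cast_one]

/-- The combinatorial classification. -/
theorem comb (N : ℕ) (d : ι → ℕ) (f : (ι → ℕ) → k) (hN : ∑ i, d i ≤ N) (hd0 : d ≠ 0)
    (hsym : ∀ a b, a + b = d → a ≠ 0 → b ≠ 0 → f a = f b)
    (hcoc : ∀ a b c, a + b + c = d → a ≠ 0 → c ≠ 0 →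
      (mch (a + b) a : k) * f (a + b) = mch (b + c) b * f a)
    (htor : ∀ i s, d = Pi.single i (p ^ (s + 1)) →
      (∀ a b, a + b = d → a ≠ 0 → b ≠ 0 → (∃ j, ¬ p ^ s ∣ a j) → f a = 0) →
      f (Pi.single i ((p - 1) * p ^ s)) = 0) :
    ∃ γ : k, ∀ a b, a + b = d → a ≠ 0 → b ≠ 0 → f a = γ * mch d a := by
  induction N generalizing d f with
  | zero =>
    exfalso
    apply hd0
    funext i
    have h1 : d i ≤ ∑ i, d i := Finset.single_le_sum (fun _ _ => Nat.zero_le _) (Finset.mem_univ i)
    simp only [Pi.zero_apply]
    omega
  | succ N ih =>
    have hp0 : 0 < p := hp.out.pos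
    -- the basic relation
    have hA : ∀ i e, e + Pi.single i 1 = d → ∀ a b, a + b = d → a ≠ 0 →
        (b i : k) * f a = mch e a * f e := by
      intro i e he a b hab ha
      by_cases hb : b i = 0
      · have h1 : a i = e i + 1 := by
          have h2 := congrFun hab i
          have h3 := congrFun he i
          simp only [Pi.add_apply, Pi.single_eq_same] at h2 h3
          omega
        have h2 : mch e a = 0 := by
          rw [mch]
          exact Finset.prod_eq_zero (Finset.mem_univ i) (Nat.choose_eq_zero_of_lt (by omega))
        rw [hb, h2]
        simp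
      · obtain ⟨b', rfl⟩ : ∃ b' : ι → ℕ, b' + Pi.single i 1 = b := by
          refine ⟨b - Pi.single i 1, ?_⟩
          funext j
          by_cases hj : j = i
          · subst hj
            simp only [Pi.add_apply, Pi.sub_apply, Pi.single_eq_same]
            omega
          · simp [hj]
        have h1 : a + b' = e := by
          have : a + b' + Pi.single i 1 = e + Pi.single i 1 := by rw [he, ← hab, add_assoc]
          exact add_right_cancel this
        have h2 := hcoc a b' (Pi.single i 1) (by rw [← hab, add_assoc]) ha (by simp)
        rw [mch_succ_right, h1] at h2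
        simp only [Pi.add_apply, Pi.single_eq_same]
        exact h2.symm
    have hex : ∀ i, d i ≠ 0 → ∃ e : ι → ℕ, e + Pi.single i 1 = d := by
      intro i hi
      refine ⟨d - Pi.single i 1, ?_⟩
      funext j
      by_cases hj : j = i
      · subst hj
        simp only [Pi.add_apply, Pi.sub_apply, Pi.single_eq_same]
        omega
      · simp [hj]
    by_cases hcase : ∃ i, (d i : k) ≠ 0
    · obtain ⟨i, hi⟩ := hcase
      obtain ⟨e, he⟩ := hex i (by rintro h; rw [h, Nat.cast_zero] at hi; exact hi rfl)
      refine ⟨f e / d i, fun a b hab ha hb => ?_⟩
      have h1 := hA i e he a b hab ha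
      have h2 := hA i e he b a (by rw [add_comm, hab]) hb
      rw [← hsym a b hab ha hb] at h2
      have h3 : (mch e a : k) * d i = mch d a * b i := by
        rw [← Nat.cast_mul, ← Nat.cast_mul, mch_mul he hab]
      have h4 : (mch e b : k) * d i = mch d b * a i := by
        rw [← Nat.cast_mul, ← Nat.cast_mul, mch_mul he (by rw [add_comm, hab])]
      rw [← mch_symm hab] at h4
      have h5 : (a i : k) + b i = d i := by
        rw [← Nat.cast_add, ← hab]
        rfl
      have h6 : (d i : k) * (d i * f a) = d i * (mch d a * f e) := by
        calc (d i : k) * (d i * f a) = d i * ((a i + b i) * f a) := by rw [h5]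
          _ = d i * (b i * f a) + d i * (a i * f a) := by ring
          _ = (mch e a * d i) * f e + (mch e b * d i) * f e := by rw [h1, h2]; ring
          _ = (a i + b i) * (mch d a * f e) := by rw [h3, h4]; ring
          _ = d i * (mch d a * f e) := by rw [h5]
      have h7 := mul_left_cancel₀ hi h6
      rw [div_mul_eq_mul_div, eq_div_iff hi]
      linear_combination h7
    · push Not at hcase
      have hdp : ∀ i, p ∣ d i := fun i => (CharP.cast_eq_zero_iff k p (d i)).1 (hcase i)
      -- `f (d - e_i) = 0`
      have hc : ∀ i e, e + Pi.single i 1 = d → f e = 0 := by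
        intro i e he
        by_cases hdi : d = Pi.single i p
        · have h1 := htor i 0 (by simpa using hdi) (by
            rintro a b - - - ⟨j, hj⟩
            simp at hj)
          have h2 : e = Pi.single i (p - 1) := by
            have h3 : e + Pi.single i 1 = Pi.single i (p - 1) + Pi.single i 1 := by
              rw [he, hdi, ← Pi.single_add]
              congr 1
              omega
            exact add_right_cancel h3
          rw [h2]
          simpa using h1
        · -- take `a = d - p e_i`
          have hdi0 : d i ≠ 0 := by
            have := congrFun he i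
            simp only [Pi.add_apply, Pi.single_eq_same] at this
            omega
          have hple : p ≤ d i := Nat.le_of_dvd (Nat.pos_of_ne_zero hdi0) (hdp i)
          set a : ι → ℕ := d - Pi.single i p with ha
          have hab : a + Pi.single i p = d := by
            funext j
            by_cases hj : j = i
            · subst hj
              simp only [ha, Pi.add_apply, Pi.sub_apply, Pi.single_eq_same]
              omega
            · simp [ha, hj]
          have ha0 : a ≠ 0 := by
            intro h
            rw [h, zero_add] at hab
            exact hdi hab.symm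
          have h1 := hA i e he a (Pi.single i p) hab ha0
          rw [Pi.single_eq_same, CharP.cast_eq_zero k p, zero_mul] at h1
          have h2 : (mch e a : k) = 1 := by
            rw [mch, Nat.cast_prod]
            rw [Finset.prod_eq_single i]
            · have h3 : e i = d i - 1 := by
                have := congrFun he i
                simp only [Pi.add_apply, Pi.single_eq_same] at this
                omega
              have h4 : a i = d i - p := by simp [ha]
              rw [h3, h4]
              exact choose_cast_eq_one p (hdp i) hdi0
            · intro j _ hj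
              have h3 : e j = d j := by
                have := congrFun he j
                simpa [hj] using this
              have h4 : a j = d j := by simp [ha, hj]
              rw [h3, h4, Nat.choose_self, Nat.cast_one]
            · simp
          rw [h2, one_mul] at h1
          exact h1.symm
      -- support
      have hsupp : ∀ a b, a + b = d → a ≠ 0 → b ≠ 0 → (∃ j, ¬ p ∣ a j) → f a = 0 := by
        rintro a b hab ha hb ⟨j, hj⟩
        have hbj : ¬ p ∣ b j := by
          intro h
          apply hj
          have h1 : a j + b j = d j := congrFun hab j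
          exact (Nat.dvd_add_left h).1 (h1 ▸ hdp j)
        have hdj : d j ≠ 0 := by
          intro h
          have h1 : a j + b j = d j := congrFun hab j
          apply hj
          have : a j = 0 := by omega
          rw [this]
          exact dvd_zero p
        obtain ⟨e, he⟩ := hex j hdj
        have h1 := hA j e he a b hab ha
        rw [hc j e he, mul_zero] at h1
        rcases mul_eq_zero.1 h1 with h | h
        · exact absurd ((CharP.cast_eq_zero_iff k p (b j)).1 h) hbj
        · exact h
      -- divide by `p`
      choose d' hd' using hdp
      have hdd : p • d' = d := funext fun i => (hd' i).symm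
      have hd'0 : d' ≠ 0 := by
        rintro rfl
        exact hd0 (by rw [← hdd, smul_zero])
      have hlt : ∑ i, d' i ≤ N := by
        have h1 : ∑ i, d i = p * ∑ i, d' i := by
          rw [Finset.mul_sum]
          exact Finset.sum_congr rfl fun i _ => hd' i
        have h2 : 2 ≤ p := hp.out.two_le
        have h3 : 0 < ∑ i, d' i := by
          by_contra h
          apply hd'0
          funext i
          have h1 : d' i ≤ ∑ i, d' i :=
            Finset.single_le_sum (fun _ _ => Nat.zero_le _) (Finset.mem_univ i)
          simp only [Pi.zero_apply]
          omega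
        nlinarith
      have hne : ∀ a : ι → ℕ, a ≠ 0 → p • a ≠ 0 := by
        intro a ha h
        apply ha
        funext i
        have := congrFun h i
        simp only [Pi.smul_apply, smul_eq_mul, Pi.zero_apply, mul_eq_zero] at this
        rcases this with h | h
        · exact absurd h hp0.ne'
        · exact h
      obtain ⟨γ, hγ⟩ := ih d' (fun a => f (p • a)) hlt hd'0
        (by
          intro a b hab ha hb
          exact hsym _ _ (by rw [← smul_add, hab, hdd]) (hne a ha) (hne b hb))
        (by
          intro a b c habc ha hc'
          have h1 := hcoc (p • a) (p • b) (p • c) (by rw [← smul_add, ← smul_add, habc, hdd])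
            (hne a ha) (hne c hc')
          rw [← smul_add, ← smul_add, mch_smul_cast, mch_smul_cast] at h1
          exact h1)
        (by
          intro i s hs hsup
          have h1 : d = Pi.single i (p ^ (s + 1 + 1)) := by
            rw [← hdd, hs]
            funext j
            by_cases hj : j = i
            · subst hj
              simp only [Pi.smul_apply, Pi.single_eq_same, smul_eq_mul]
              ring
            · simp [hj]
          have h2 := htor i (s + 1) h1 (by
            rintro a b hab ha hb ⟨j, hj⟩
            by_cases hpa : ∃ j, ¬ p ∣ a j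
            · exact hsupp a b hab ha hb hpa
            · push Not at hpa
              choose a' ha' using hpa
              have haa : p • a' = a := funext fun i => (ha' i).symm
              have hb' : ∀ j, p ∣ b j := by
                intro j
                have h3 : a j + b j = d j := congrFun hab j
                have h4 : p ∣ a j := ⟨a' j, ha' j⟩
                have h5 : p ∣ d j := ⟨d' j, hd' j⟩
                exact (Nat.dvd_add_right h4).1 (h3 ▸ h5)
              choose b' hb' using hb'
              have hbb : p • b' = b := funext fun i => (hb' i).symm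
              have ha'0 : a' ≠ 0 := by
                rintro rfl
                exact ha (by rw [← haa, smul_zero])
              have hb'0 : b' ≠ 0 := by
                rintro rfl
                exact hb (by rw [← hbb, smul_zero])
              have hab' : a' + b' = d' := by
                funext j
                have h3 : a j + b j = d j := congrFun hab j
                rw [ha', hb', hd', ← mul_add] at h3
                exact Nat.eq_of_mul_eq_mul_left hp0 h3
              rw [← haa]
              refine hsup a' b' hab' ha'0 hb'0 ⟨j, fun h => hj ?_⟩
              rw [ha', pow_succ, mul_comm]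
              exact Nat.mul_dvd_mul_left p h)
          have h3 : p • (Pi.single i ((p - 1) * p ^ s) : ι → ℕ) =
              Pi.single i ((p - 1) * p ^ (s + 1)) := by
            funext j
            by_cases hj : j = i
            · subst hj
              simp only [Pi.smul_apply, Pi.single_eq_same, smul_eq_mul]
              ring
            · simp [hj]
          rw [h3]
          exact h2)
      refine ⟨γ, fun a b hab ha hb => ?_⟩
      by_cases hpa : ∃ j, ¬ p ∣ a j
      · rw [hsupp a b hab ha hb hpa]
        obtain ⟨j, hj⟩ := hpa
        rw [mch_cast_eq_zero p (j := j) ⟨d' j, hd' j⟩ hj, mul_zero]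
      · push Not at hpa
        choose a' ha' using hpa
        have haa : p • a' = a := funext fun i => (ha' i).symm
        have hb' : ∀ j, p ∣ b j := by
          intro j
          have h3 : a j + b j = d j := congrFun hab j
          have h4 : p ∣ a j := ⟨a' j, ha' j⟩
          have h5 : p ∣ d j := ⟨d' j, hd' j⟩
          exact (Nat.dvd_add_right h4).1 (h3 ▸ h5)
        choose b' hb' using hb'
        have hbb : p • b' = b := funext fun i => (hb' i).symm
        have ha'0 : a' ≠ 0 := by
          rintro rfl
          exact ha (by rw [← haa, smul_zero])
        have hb'0 : b' ≠ 0 := by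
          rintro rfl
          exact hb (by rw [← hbb, smul_zero])
        have hab' : a' + b' = d' := by
          funext j
          have h3 : a j + b j = d j := congrFun hab j
          rw [ha', hb', hd', ← mul_add] at h3
          exact Nat.eq_of_mul_eq_mul_left hp0 h3
        rw [← haa, ← hdd, mch_smul_cast]
        exact hγ a' b' hab' ha'0 hb'0

/-- If all `(d choose a)` with `0 ≠ a ≠ d` vanish in characteristic `p` then `d = p ^ s e_i`. -/
theorem eq_single_pow (d : ι → ℕ) (hd0 : d ≠ 0)
    (h : ∀ a b, a + b = d → a ≠ 0 → b ≠ 0 → (mch d a : k) = 0) :
    ∃ i s, d = Pi.single i (p ^ s) := by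
  obtain ⟨i, hi⟩ : ∃ i, d i ≠ 0 := by
    by_contra hcon
    push Not at hcon
    exact hd0 (funext hcon)
  have hd : d = Pi.single i (d i) := by
    by_contra hne
    have h1 : Pi.single i (d i) + (d - Pi.single i (d i)) = d := by
      funext j
      by_cases hj : j = i
      · subst hj
        simp
      · simp [hj]
    have h2 := h _ _ h1 (by simpa using hi) (by
      intro h0
      rw [h0, add_zero] at h1
      exact hne h1.symm)
    have h3 : mch d (Pi.single i (d i)) = 1 := by
      rw [mch, Finset.prod_eq_one]
      intro j _
      by_cases hj : j = i
      · subst hj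
        simp
      · simp [hj]
    rw [h3, Nat.cast_one] at h2
    exact one_ne_zero h2
  refine ⟨i, multiplicity p (d i), ?_⟩
  conv_lhs => rw [hd]
  congr 1
  refine Choose.eq_pow_multiplicity_of_choose_modEq_zero_nat (Nat.pos_of_ne_zero hi) ?_
  intro n hn
  rw [Finset.mem_Icc] at hn
  have h1 := h (Pi.single i n) (Pi.single i (d i - n)) (by
    rw [← Pi.single_add, Nat.add_sub_cancel' (by omega)]
    exact hd.symm) (by simp; omega) (by simp; omega)
  have h2 : mch d (Pi.single i n) = (d i).choose n := by
    rw [mch, Finset.prod_eq_single i]
    · simp
    · intro j _ hj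
      simp [hj]
    · simp
  rw [h2] at h1
  exact (Nat.modEq_zero_iff_dvd).2 ((CharP.cast_eq_zero_iff k p _).1 h1)

end char

end Groth.Agent.Agf.H621.MChoose
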