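import Groth.Agent.Agf.H621.MChoose
import Groth.Agent.Agf.H621.AddEv
import Groth.Agent.Books.CharZeroUnip2
import Mathlib.Algebra.BigOperators.Ring.Finset
import Mathlib.Data.Fintype.Pi

/-!
# Monomials in primitive elements

`mon y a = ∏ i, (y i) ^ (a i)`.  In characteristic `p`, if the primitive elements `y i` satisfy no
non-trivial relation `∑ i, ev p (y i) (q i) = 0` then the monomials `mon y a` are linearly independent.
-/

set_option autoImplicit false

universe u v

open TensorProduct WithConv
open Groth.Agent.Books.CharZeroUnip2 Groth.Agent.Agf.H621.MChoose Groth.Agent.Agf.H621.AddEv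

namespace Groth.Agent.Agf.H621.PrimMon

section mon

variable {ι : Type*} [Fintype ι] {A : Type*} [CommRing A]

/-- Monomials. -/
def mon (y : ι → A) (a : ι → ℕ) : A := ∏ i, y i ^ a i

lemma mon_zero (y : ι → A) : mon y 0 = 1 := by simp [mon]

lemma mon_add (y : ι → A) (a b : ι → ℕ) : mon y (a + b) = mon y a * mon y b := by
  simp only [mon, Pi.add_apply, pow_add, Finset.prod_mul_distrib]

lemma mon_single [DecidableEq ι] (y : ι → A) (i : ι) (n : ℕ) :
    mon y (Pi.single i n) = y i ^ n := by
  rw [mon, Finset.prod_eq_single i]
  · rw [Pi.single_eq_same]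
  · intro j _ hj
    rw [Pi.single_eq_of_ne hj, pow_zero]
  · intro h
    exact absurd (Finset.mem_univ i) h

end mon

section comul

variable {ι : Type*} [Fintype ι] [DecidableEq ι] {k : Type u} {A : Type v} [Field k] [CommRing A]
  [Bialgebra k A]

/-- The set of `x ≤ e`. -/
def box (e : ι → ℕ) : Finset (ι → ℕ) := Fintype.piFinset fun i => Finset.range (e i + 1)

omit [DecidableEq ι] in
lemma mem_box [DecidableEq ι] {e x : ι → ℕ} : x ∈ box e ↔ x ≤ e := by
  simp only [box, Fintype.mem_piFinset, Finset.mem_range, Nat.lt_succ_iff]
  rfl

/-- The comultiplication of a monomial in primitive elements. -/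
lemma comul_mon {y : ι → A} (hy : ∀ i, IsPrim k (y i)) (e : ι → ℕ) :
    CoalgebraStruct.comul (R := k) (mon y e) =
      ∑ x ∈ box e, (mch e x : k) • (mon y x ⊗ₜ[k] mon y (e - x)) := by
  have h1 : CoalgebraStruct.comul (R := k) (mon y e) = Bialgebra.comulAlgHom k A (mon y e) := rfl
  rw [h1, mon, map_prod]
  have h2 : ∀ i, Bialgebra.comulAlgHom k A (y i ^ e i) = ∑ j ∈ Finset.range (e i + 1),
      ((e i).choose j : A ⊗[k] A) * ((y i ^ j) ⊗ₜ[k] (y i ^ (e i - j))) := by
    intro i
    have h3 : Bialgebra.comulAlgHom k A (y i) = y i ⊗ₜ[k] (1 : A) + (1 : A) ⊗ₜ[k] y i := hy i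
    rw [map_pow, h3, add_pow]
    refine Finset.sum_congr rfl fun j _ => ?_
    rw [Algebra.TensorProduct.tmul_pow, Algebra.TensorProduct.tmul_pow,
      Algebra.TensorProduct.tmul_mul_tmul, one_pow, one_pow, mul_one, one_mul, mul_comm]
  rw [Finset.prod_congr rfl fun i _ => h2 i, Finset.prod_univ_sum]
  refine Finset.sum_congr rfl fun x _ => ?_
  rw [Finset.prod_mul_distrib, mch]
  have h3 : ∏ i, ((e i).choose (x i) : A ⊗[k] A) = algebraMap k _ ((∏ i, (e i).choose (x i) : ℕ) : k) := by
    rw [map_natCast, Nat.cast_prod]
  rw [h3, ← Algebra.smul_def]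
  congr 1
  simp only [mon, Pi.sub_apply]
  induction (Finset.univ : Finset ι) using Finset.induction_on with
  | empty => simp [Algebra.TensorProduct.one_def]
  | insert i s hi ih =>
    rw [Finset.prod_insert hi, Finset.prod_insert hi, Finset.prod_insert hi, ih,
      Algebra.TensorProduct.tmul_mul_tmul]

/-- Contraction of `A ⊗ A` with two functionals. -/
noncomputable def two (f g : A →ₗ[k] k) : A ⊗[k] A →ₗ[k] k :=
  LinearMap.mul' k k ∘ₗ TensorProduct.map f g

@[simp] lemma two_tmul (f g : A →ₗ[k] k) (a b : A) : two f g (a ⊗ₜ[k] b) = f a * g b := by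
  simp [two]

omit [DecidableEq ι] in
lemma counit_mon {y : ι → A} (hy : ∀ i, IsPrim k (y i)) {e : ι → ℕ} (he : e ≠ 0) :
    CoalgebraStruct.counit (R := k) (mon y e) = 0 := by
  obtain ⟨i, hi⟩ : ∃ i, e i ≠ 0 := by
    by_contra h
    push Not at h
    exact he (funext h)
  have h1 : CoalgebraStruct.counit (R := k) (mon y e) = Bialgebra.counitAlgHom k A (mon y e) := rfl
  rw [h1, mon, map_prod]
  refine Finset.prod_eq_zero (Finset.mem_univ i) ?_
  have h2 : Bialgebra.counitAlgHom k A (y i) = 0 := (hy i).counit
  rw [map_pow, h2, zero_pow hi]

end comul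

section indep

variable {ι : Type*} [Fintype ι] [DecidableEq ι] {k : Type u} {A : Type v} [Field k] [CommRing A]
  [Bialgebra k A] (p : ℕ) [hp : Fact p.Prime] [CharP k p]

/-- the sum of a multi-index -/
def deg (a : ι → ℕ) : ℕ := ∑ i, a i

omit [DecidableEq ι] in
lemma deg_add (a b : ι → ℕ) : deg (a + b) = deg a + deg b := by
  simp [deg, Finset.sum_add_distrib]

omit [DecidableEq ι] in
lemma deg_pos {a : ι → ℕ} (ha : a ≠ 0) : 0 < deg a := by
  obtain ⟨i, hi⟩ : ∃ i, a i ≠ 0 := by
    by_contra h
    push Not at h
    exact ha (funext h)
  have : a i ≤ deg a := Finset.single_le_sum (fun _ _ => Nat.zero_le _) (Finset.mem_univ i)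
  omega

/-- Dual functionals to a linearly independent family (indexed by a subset). -/
lemma exists_dual {α V : Type*} [DecidableEq α] [AddCommGroup V] [Module k V] (v : α → V)
    (s : Set α)
    (h : LinearIndepOn k v s) : ∃ lam : α → V →ₗ[k] k, ∀ a ∈ s, ∀ b ∈ s,
      lam a (v b) = if a = b then 1 else 0 := by
  classical
  have h' : LinearIndependent k (fun x : s => v x) := h
  obtain ⟨g, hg⟩ := (h'.repr : _ →ₗ[k] _).exists_extend
  refine ⟨fun a => if ha : a ∈ s then Finsupp.lapply (⟨a, ha⟩ : s) ∘ₗ g else 0,
    fun a ha b hb => ?_⟩
  have h1 : g (v b) = h'.repr ⟨v b, Submodule.subset_span ⟨⟨b, hb⟩, rfl⟩⟩ := by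
    rw [← hg]
    rfl
  beta_reduce
  rw [dif_pos ha, LinearMap.comp_apply, h1, h'.repr_eq_single ⟨b, hb⟩ _ rfl]
  simp only [Finsupp.lapply_apply, Finsupp.single_apply, Subtype.mk.injEq]
  by_cases hab : a = b
  · rw [if_pos hab, if_pos hab.symm]
  · rw [if_neg hab, if_neg (Ne.symm hab)]

/-- Monomials in relation-free primitive elements are linearly independent. -/
theorem linearIndependent_mon {n : ℕ} {y : Fin n → A} (hy : ∀ i, IsPrim k (y i))
    (hrel : ∀ q : Fin n → Polynomial k, ∑ i, ev p (y i) (q i) = 0 → q = 0) :
    LinearIndependent k (mon y) := by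
  classical
  have hnt : Nontrivial A := by
    refine ⟨⟨1, 0, fun h => ?_⟩⟩
    have := congrArg (CoalgebraStruct.counit (R := k)) h
    rw [Bialgebra.counit_one, map_zero] at this
    exact one_ne_zero this
  have key : ∀ N : ℕ, LinearIndepOn k (mon y) {a | deg a ≤ N} := by
    intro N
    induction N with
    | zero =>
      have hs : {a : Fin n → ℕ | deg a ≤ 0} = {0} := by
        ext a
        simp only [Set.mem_ofPred_eq, Nat.le_zero, Set.mem_singleton_iff]
        constructor
        · intro h
          by_contra h'
          have := deg_pos h'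
          omega
        · rintro rfl
          simp [deg]
      rw [hs]
      refine LinearIndepOn.singleton ?_
      rw [mon_zero]
      exact one_ne_zero
    | succ N ih =>
      obtain ⟨lam, hlam⟩ := exists_dual (mon y) _ ih
      have hlam0 : ∀ a, a ≠ 0 → deg a ≤ N → lam a 1 = 0 := by
        intro a ha haN
        rw [← mon_zero y, hlam a haN 0 (by simp [deg]), if_neg ha]
      rw [linearIndepOn_iff]
      intro Q hQ hQ0
      rw [Finsupp.linearCombination_apply, Finsupp.sum] at hQ0
      have hQs : ∀ d, Q d ≠ 0 → deg d ≤ N + 1 := by
        intro d hd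
        exact (Finsupp.mem_supported k Q).1 hQ (Finsupp.mem_support_iff.2 hd)
      -- apply `Δ - ⊗ 1 - 1 ⊗`
      have h1 : ∀ a b : Fin n → ℕ, a ≠ 0 → b ≠ 0 → deg (a + b) ≤ N + 1 →
          Q (a + b) * mch (a + b) a = 0 := by
        intro a b ha hb hab
        have hda := deg_pos ha
        have hdb := deg_pos hb
        rw [deg_add] at hab
        have haN : deg a ≤ N := by omega
        have hbN : deg b ≤ N := by omega
        let Φ : A →ₗ[k] k := two (lam a) (lam b) ∘ₗ CoalgebraStruct.comul
        have h2 : ∀ d, deg d ≤ N + 1 → Φ (mon y d) = if a + b = d then (mch d a : k) else 0 := by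
          intro d hd
          change two (lam a) (lam b) (CoalgebraStruct.comul (R := k) (mon y d)) = _
          rw [comul_mon hy, map_sum]
          have h3 : ∀ x ∈ box d, two (lam a) (lam b)
              ((mch d x : k) • (mon y x ⊗ₜ[k] mon y (d - x))) =
              if a = x ∧ b = d - x then (mch d x : k) else 0 := by
            intro x hx
            rw [mem_box] at hx
            have hxd : x + (d - x) = d := by
              funext i
              have hxi : x i ≤ d i := hx i
              simp only [Pi.add_apply, Pi.sub_apply]
              omega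
            have hdd : deg x + deg (d - x) = deg d := by rw [← deg_add, hxd]
            rw [map_smul, two_tmul, smul_eq_mul]
            by_cases hx0 : x = 0
            · rw [hx0, mon_zero, hlam0 a ha haN, zero_mul, mul_zero, if_neg]
              rintro ⟨h, -⟩
              exact ha h
            by_cases hx1 : d - x = 0
            · rw [hx1, mon_zero, hlam0 b hb hbN, mul_zero, mul_zero, if_neg]
              rintro ⟨-, h⟩
              exact hb h
            have := deg_pos hx0
            have := deg_pos hx1
            have hxN : deg x ≤ N := by omega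
            have hxN' : deg (d - x) ≤ N := by omega
            rw [hlam a haN x hxN, hlam b hbN _ hxN']
            by_cases hax : a = x
            · by_cases hbx : b = d - x
              · rw [if_pos hax, if_pos hbx, if_pos ⟨hax, hbx⟩, mul_one, mul_one]
              · rw [if_neg hbx, mul_zero, mul_zero, if_neg fun h => hbx h.2]
            · rw [if_neg hax, zero_mul, mul_zero, if_neg fun h => hax h.1]
          rw [Finset.sum_congr rfl h3]
          by_cases hd' : a + b = d
          · rw [if_pos hd', Finset.sum_eq_single a]
            · rw [if_pos]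
              refine ⟨rfl, ?_⟩
              rw [← hd']
              funext i
              simp
            · intro x _ hxa
              rw [if_neg]
              rintro ⟨h, -⟩
              exact hxa h.symm
            · intro h
              exfalso
              apply h
              rw [mem_box, ← hd']
              intro i
              simp
          · rw [if_neg hd']
            refine Finset.sum_eq_zero fun x hx => ?_
            rw [if_neg]
            rintro ⟨h, h'⟩
            apply hd'
            rw [h, h']
            funext i
            have hxi : x i ≤ d i := (mem_box.1 hx) i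
            simp only [Pi.add_apply, Pi.sub_apply]
            omega
        have h3 := congrArg Φ hQ0
        rw [map_sum, map_zero] at h3
        have h4 : ∀ d ∈ Q.support, Φ (Q d • mon y d) = if a + b = d then Q d * (mch d a : k) else 0 := by
          intro d hd
          rw [map_smul, h2 d (hQs d (Finsupp.mem_support_iff.1 hd)), smul_eq_mul, mul_ite, mul_zero]
        rw [Finset.sum_congr rfl h4, Finset.sum_ite_eq] at h3
        by_cases hs : a + b ∈ Q.support
        · rwa [if_pos hs] at h3
        · rw [Finsupp.notMem_support_iff.1 hs, zero_mul]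
      -- support of `Q`
      have h2 : ∀ d, Q d ≠ 0 → d = 0 ∨ ∃ i s, d = Pi.single i (p ^ s) := by
        intro d hd
        by_cases hd0 : d = 0
        · exact Or.inl hd0
        right
        refine eq_single_pow (k := k) p d hd0 fun a b hab ha hb => ?_
        have h3 := h1 a b ha hb (by rw [hab]; exact hQs d hd)
        rw [hab] at h3
        exact (mul_eq_zero.1 h3).resolve_left hd
      -- the constant term
      have h3 : Q 0 = 0 := by
        have h4 := congrArg (CoalgebraStruct.counit (R := k)) hQ0
        rw [map_sum, map_zero] at h4
        have h5 : ∀ d ∈ Q.support, CoalgebraStruct.counit (R := k) (Q d • mon y d) =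
            if 0 = d then Q d else 0 := by
          intro d _
          rw [map_smul, smul_eq_mul]
          by_cases hd : 0 = d
          · rw [if_pos hd, ← hd, mon_zero, Bialgebra.counit_one, mul_one]
          · rw [if_neg hd, counit_mon hy (Ne.symm hd), mul_zero]
        rw [Finset.sum_congr rfl h5, Finset.sum_ite_eq] at h4
        by_cases hs : (0 : Fin n → ℕ) ∈ Q.support
        · rwa [if_pos hs] at h4
        · exact Finsupp.notMem_support_iff.1 hs
      -- the linear relation
      have hinj : ∀ i i' s s', (Pi.single i (p ^ s) : Fin n → ℕ) = Pi.single i' (p ^ s') →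
          i = i' ∧ s = s' := by
        intro i i' s s' h
        have hii : i = i' := by
          by_contra hne
          have := congrFun h i
          rw [Pi.single_eq_same, Pi.single_eq_of_ne hne] at this
          exact (pow_ne_zero _ hp.out.ne_zero) this
        subst hii
        have := congrFun h i
        rw [Pi.single_eq_same, Pi.single_eq_same] at this
        exact ⟨rfl, Nat.pow_right_injective hp.out.two_le this⟩
      let M : ℕ := N + 2
      let q : Fin n → Polynomial k := fun i => ∑ s ∈ Finset.range M,
        Polynomial.monomial s (Q (Pi.single i (p ^ s)))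
      have h4 : ∑ i, ev p (y i) (q i) = 0 := by
        have h5 : ∑ i, ev p (y i) (q i) = ∑ x ∈ Finset.univ ×ˢ Finset.range M,
            Q (Pi.single x.1 (p ^ x.2)) • mon y (Pi.single x.1 (p ^ x.2)) := by
          rw [Finset.sum_product]
          refine Finset.sum_congr rfl fun i _ => ?_
          rw [map_sum]
          refine Finset.sum_congr rfl fun s _ => ?_
          rw [ev_monomial, mon_single]
        rw [h5, ← Finset.sum_image (f := fun d => Q d • mon y d)
          (g := fun x : Fin n × ℕ => Pi.single x.1 (p ^ x.2)), ← hQ0]
        · symm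
          refine Finset.sum_subset_zero_on_sdiff (fun d hd => ?_) (fun d hd => ?_) (fun _ _ => rfl)
          · rw [Finsupp.mem_support_iff] at hd
            rcases h2 d hd with h | ⟨i, s, h⟩
            · rw [h] at hd
              exact absurd h3 hd
            · rw [Finset.mem_image]
              refine ⟨(i, s), ?_, h.symm⟩
              rw [Finset.mem_product, Finset.mem_range]
              refine ⟨Finset.mem_univ _, ?_⟩
              have h6 := hQs d hd
              have h7 : deg d = p ^ s := by
                rw [h, deg, Finset.sum_eq_single i]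
                · simp
                · intro j _ hj
                  simp [hj]
                · simp
              have h8 : s < p ^ s := Nat.lt_pow_self hp.out.one_lt
              simp only [M]
              omega
          · rw [Finset.mem_sdiff, Finsupp.notMem_support_iff] at hd
            rw [hd.2, zero_smul]
        · rintro ⟨i, s⟩ _ ⟨i', s'⟩ _ h
          obtain ⟨h6, h7⟩ := hinj _ _ _ _ h
          simp only at h6 h7
          rw [h6, h7]
      have h5 := hrel q h4
      ext d
      rw [Finsupp.zero_apply]
      by_contra hd
      rcases h2 d hd with h | ⟨i, s, h⟩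
      · rw [h] at hd
        exact hd h3
      · have h6 : (q i).coeff s = Q d := by
          simp only [q, Polynomial.finsetSum_coeff, Polynomial.coeff_monomial]
          rw [Finset.sum_ite_eq', if_pos, h]
          rw [Finset.mem_range]
          have h6 := hQs d hd
          have h7 : deg d = p ^ s := by
            rw [h, deg, Finset.sum_eq_single i]
            · simp
            · intro j _ hj
              simp [hj]
            · simp
          have h8 : s < p ^ s := Nat.lt_pow_self hp.out.one_lt
          simp only [M]
          omega
        rw [h5] at h6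
        exact hd h6.symm
  rw [linearIndependent_iff]
  intro Q hQ
  have h1 := key (Q.support.sup deg)
  rw [linearIndepOn_iff] at h1
  refine h1 Q ?_ hQ
  rw [Finsupp.mem_supported]
  intro d hd
  exact Finset.le_sup (f := deg) hd

end indep

end Groth.Agent.Agf.H621.PrimMon
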