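import Groth.Agent.Agf.H621.PrimMon
import Mathlib.FieldTheory.Finite.Basic

/-!
# Commutative unipotent groups killed by `p` are vector groups: generation by primitive elements

Let `A` be a commutative cocommutative bialgebra over a field of characteristic `p`, exhausted by its
socle filtration, such that the `p`-th power map is trivial.  If `y` is a finite family of primitive
elements with linearly independent monomials, generating all primitive elements, then `y` generates `A`.
-/

set_option autoImplicit false

universe u v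

open TensorProduct WithConv
open Groth.Agent.Books.CharZeroUnip2 Groth.Agent.Books.CharZeroUnip Groth.Agent.Books.ComodSocle
open Groth.Agent.Books.ComodDual HopfRep
open Groth.Agent.Agf.H621.MChoose Groth.Agent.Agf.H621.PrimMon

namespace Groth.Agent.Agf.H621.VecGen

section powersum

variable (k : Type*) [Field k] (p : ℕ) [hp : Fact p.Prime] [CharP k p]

lemma cast_pow_p_pow (j s : ℕ) : (j : k) ^ p ^ s = j := by
  induction s with
  | zero => simp
  | succ s ih => rw [pow_succ, pow_mul, ih, ← frobenius_def, map_natCast]

lemma sum_pow_lt {t : ℕ} (ht : t < p - 1) : ∑ j ∈ Finset.range p, (j : k) ^ t = 0 := by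
  have h1 : ∑ x : ZMod p, x ^ t = 0 :=
    FiniteField.sum_pow_lt_card_sub_one (ZMod p) t (by rwa [ZMod.card])
  have h2 : ∑ j ∈ Finset.range p, (j : ZMod p) ^ t = 0 := by
    rw [← h1]
    refine Finset.sum_nbij' (fun j => (j : ZMod p)) (fun x => x.val) ?_ ?_ ?_ ?_ ?_
    · intro j _; exact Finset.mem_univ _
    · intro x _; exact Finset.mem_range.2 (ZMod.val_lt x)
    · intro j hj; exact ZMod.val_cast_of_lt (Finset.mem_range.1 hj)
    · intro x _; exact ZMod.natCast_zmod_val x
    · intro j _; rfl
  have h3 := congrArg (ZMod.castHom (dvd_refl p) k) h2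
  simpa using h3

lemma sum_pow_top : ∑ j ∈ Finset.range p, (j : k) ^ (p - 1) = -1 := by
  have hp1 := hp.out.one_lt
  obtain ⟨q, hq⟩ : ∃ q, p = q + 1 := ⟨p - 1, by omega⟩
  have hq0 : q ≠ 0 := by omega
  have h1 : ∀ j ∈ Finset.range q, ((j + 1 : ℕ) : k) ^ (p - 1) = 1 := by
    intro j hj
    rw [Finset.mem_range] at hj
    have h2 : ((j + 1 : ℕ) : k) ≠ 0 := by
      rw [Ne, CharP.cast_eq_zero_iff k p]
      intro h
      have := Nat.le_of_dvd (Nat.succ_pos j) h
      omega
    have h3 := cast_pow_p_pow k p (j + 1) 1
    rw [pow_one] at h3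
    have h4 : ((j + 1 : ℕ) : k) ^ (p - 1) * ((j + 1 : ℕ) : k) = 1 * ((j + 1 : ℕ) : k) := by
      rw [← pow_succ, show p - 1 + 1 = p by omega, h3, one_mul]
    exact mul_right_cancel₀ h2 h4
  have h5 : (q : k) = -1 := by
    have h6 : ((q + 1 : ℕ) : k) = 0 := by rw [← hq]; exact CharP.cast_eq_zero k p
    rw [Nat.cast_add, Nat.cast_one] at h6
    exact eq_neg_of_add_eq_zero_left h6
  have h6 : Finset.range p = Finset.range (q + 1) := by rw [hq]
  rw [h6, Finset.sum_range_succ', Finset.sum_congr rfl h1, Finset.sum_const, Finset.card_range,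
    nsmul_one, Nat.cast_zero, zero_pow (by omega), add_zero, h5]

end powersum

section psi

variable {k : Type u} {A : Type v} [Field k] [CommRing A] [Bialgebra k A]

lemma psi_succ (m : ℕ) (a : A) : psi k A (m + 1) a =
    LinearMap.mul' k A (TensorProduct.map (psi k A m).toLinearMap LinearMap.id
      (CoalgebraStruct.comul (R := k) a)) := by
  have h1 := psi_toLinearMap (k := k) (A := A) (m + 1)
  rw [pow_succ, ← psi_toLinearMap] at h1
  have h2 : psi k A (m + 1) a = (toConv (psi k A (m + 1)).toLinearMap : WithConv (A →ₗ[k] A)) a :=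
    rfl
  rw [h2, h1, LinearMap.convMul_apply]

lemma psi_prim (m : ℕ) {x : A} (hx : IsPrim k x) : psi k A m x = (m : k) • x := by
  induction m with
  | zero =>
    rw [psi_zero, hx.counit, map_zero, Nat.cast_zero, zero_smul]
  | succ m ih =>
    have h1 : CoalgebraStruct.comul (R := k) x = x ⊗ₜ[k] (1 : A) + (1 : A) ⊗ₜ[k] x := hx
    rw [psi_succ, h1, map_add, map_add, TensorProduct.map_tmul, TensorProduct.map_tmul,
      LinearMap.mul'_apply, LinearMap.mul'_apply]
    simp only [AlgHom.toLinearMap_apply, LinearMap.id_apply, map_one, mul_one, one_mul]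
    rw [ih, Nat.cast_add, Nat.cast_one, add_smul, one_smul]

lemma psi_mon {ι : Type*} [Fintype ι] {y : ι → A} (hy : ∀ i, IsPrim k (y i)) (m : ℕ) (a : ι → ℕ) :
    psi k A m (mon y a) = (m : k) ^ deg a • mon y a := by
  rw [mon, map_prod]
  have h1 : ∀ i ∈ (Finset.univ : Finset ι), psi k A m (y i ^ a i) = algebraMap k A ((m : k) ^ a i) * y i ^ a i := by
    intro i _
    rw [map_pow, psi_prim m (hy i), Algebra.smul_def, mul_pow, ← map_pow]
  rw [Finset.prod_congr rfl h1, Finset.prod_mul_distrib, ← map_prod, Finset.prod_pow_eq_pow_sum,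
    Algebra.smul_def]
  rfl

end psi

section coord

variable {k : Type u} {A : Type v} [Field k] [CommRing A] [Bialgebra k A]

/-- Contraction of `A ⊗ (A ⊗ A)` with three functionals. -/
noncomputable def three (f g h : A →ₗ[k] k) : A ⊗[k] (A ⊗[k] A) →ₗ[k] k :=
  LinearMap.mul' k k ∘ₗ TensorProduct.map f (two g h)

@[simp] lemma three_tmul (f g h : A →ₗ[k] k) (a : A) (w : A ⊗[k] A) :
    three f g h (a ⊗ₜ[k] w) = f a * two g h w := by
  simp [three]

lemma three_assoc_tmul (f g h : A →ₗ[k] k) (a : A) (w : A ⊗[k] A) :
    three f g h (TensorProduct.assoc k A A A (w ⊗ₜ[k] a)) = two f g w * h a := by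
  induction w with
  | zero => simp
  | add x y hx hy => rw [add_tmul, map_add, map_add, hx, hy, map_add, add_mul]
  | tmul x y => simp [mul_assoc]

lemma two_comm (f g : A →ₗ[k] k) (w : A ⊗[k] A) :
    two f g (TensorProduct.comm k A A w) = two g f w := by
  induction w with
  | zero => simp
  | add x y hx hy => rw [map_add, map_add, hx, hy, map_add]
  | tmul x y => simp [mul_comm]

lemma coord_sum {α : Type*} [DecidableEq α] (F : α →₀ k) (x₀ : α) (u : α → k) :
    ∑ x ∈ F.support, F x * (if x = x₀ then u x else 0) = F x₀ * u x₀ := by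
  have h1 : ∀ x ∈ F.support, F x * (if x = x₀ then u x else 0) = if x = x₀ then F x * u x else 0 := by
    intro x _
    split_ifs <;> simp
  rw [Finset.sum_congr rfl h1, Finset.sum_ite_eq']
  by_cases h : x₀ ∈ F.support
  · rw [if_pos h]
  · rw [if_neg h, Finsupp.notMem_support_iff.1 h, zero_mul]

end coord

section main

variable {k : Type u} {A : Type v} [Field k] [CommRing A] [Bialgebra k A]
  {ι : Type*} [Fintype ι] [DecidableEq ι]

omit [DecidableEq ι] [Bialgebra k A] in
lemma adjoin_eq_span_mon [Algebra k A] [DecidableEq ι] (y : ι → A) :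
    Subalgebra.toSubmodule (Algebra.adjoin k (Set.range y)) = Submodule.span k (Set.range (mon y)) := by
  apply le_antisymm
  · rw [Algebra.adjoin_eq_span]
    apply Submodule.span_mono
    intro x hx
    induction hx using Submonoid.closure_induction with
    | mem x hx =>
      obtain ⟨i, rfl⟩ := hx
      exact ⟨Pi.single i 1, by rw [mon_single, pow_one]⟩
    | one => exact ⟨0, mon_zero y⟩
    | mul a b _ _ ha hb =>
      obtain ⟨a, rfl⟩ := ha
      obtain ⟨b, rfl⟩ := hb
      exact ⟨a + b, mon_add y a b⟩
  · rw [Submodule.span_le]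
    rintro _ ⟨a, rfl⟩
    have h1 : mon y a ∈ Algebra.adjoin k (Set.range y) := by
      rw [mon]
      exact prod_mem fun i _ => pow_mem (Algebra.subset_adjoin (Set.mem_range_self i)) _
    exact h1

variable {y : ι → A} (hy : ∀ i, IsPrim k (y i)) (lam : (ι → ℕ) → A →ₗ[k] k)
  (hlam : ∀ a b, lam a (mon y b) = if a = b then 1 else 0)

include hy hlam in
lemma two_comul_mon (a b d : ι → ℕ) :
    two (lam a) (lam b) (CoalgebraStruct.comul (R := k) (mon y d)) =
      if a + b = d then (mch d a : k) else 0 := by
  rw [comul_mon hy, map_sum]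
  have h3 : ∀ x ∈ box d, two (lam a) (lam b)
      ((mch d x : k) • (mon y x ⊗ₜ[k] mon y (d - x))) =
      if a = x ∧ b = d - x then (mch d x : k) else 0 := by
    intro x _
    rw [map_smul, two_tmul, smul_eq_mul, hlam, hlam]
    by_cases hax : a = x
    · by_cases hbx : b = d - x
      · rw [if_pos hax, if_pos hbx, if_pos ⟨hax, hbx⟩, mul_one, mul_one]
      · rw [if_neg hbx, mul_zero, mul_zero, if_neg fun h => hbx h.2]
    · rw [if_neg hax, zero_mul, mul_zero, if_neg fun h => hax h.1]
  rw [Finset.sum_congr rfl h3]
  by_cases hd' : a + b = d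
  · rw [if_pos hd', Finset.sum_eq_single a]
    · rw [if_pos]
      refine ⟨rfl, ?_⟩
      rw [← hd']
      funext i
      simp
    · intro x _ hxa
      rw [if_neg]
      rintro ⟨h, -⟩
      exact hxa h.symm
    · intro h
      exfalso
      apply h
      rw [mem_box, ← hd']
      intro i
      simp
  · rw [if_neg hd']
    refine Finset.sum_eq_zero fun x hx => ?_
    rw [if_neg]
    rintro ⟨h, h'⟩
    apply hd'
    rw [h, h']
    funext i
    have hxi : x i ≤ d i := (mem_box.1 hx) i
    simp only [Pi.add_apply, Pi.sub_apply]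
    omega

omit [Fintype ι] [DecidableEq ι] in
lemma pi_sub_left {b c d : ι → ℕ} (h : b + c = d) : d - b = c := by
  subst h
  funext i
  simp

omit [Fintype ι] [DecidableEq ι] in
lemma pi_sub_right {b c d : ι → ℕ} (h : b + c = d) : d - c = b := by
  subst h
  funext i
  simp

omit [DecidableEq ι] in
lemma lam_one [DecidableEq ι] {lam : (ι → ℕ) → A →ₗ[k] k}
    (hlam : ∀ a b, lam a (mon y b) = if a = b then 1 else 0) {a : ι → ℕ} (ha : a ≠ 0) :
    lam a 1 = 0 := by
  rw [← mon_zero y, hlam, if_neg ha]

/-- Elements of the span of the tensors of monomials. -/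
def SS (k : Type u) {A : Type v} [Field k] [CommRing A] [Bialgebra k A] {ι : Type*} [Fintype ι]
    (y : ι → A) : Submodule k (A ⊗[k] A) :=
  Submodule.span k (Set.range fun x : (ι → ℕ) × (ι → ℕ) => mon y x.1 ⊗ₜ[k] mon y x.2)

omit [DecidableEq ι] in
/-- Membership in the span of tensors of monomials, through contractions. -/
lemma mem_SS_of_contr {z : A ⊗[k] A} (hz : TensorProduct.comm k A A z = z)
    (h : ∀ f : A →ₗ[k] k, contr f z ∈ Submodule.span k (Set.range (mon y))) : z ∈ SS k y := by
  set S := Submodule.span k (Set.range (mon y)) with hS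
  obtain ⟨π, hπ⟩ := S.subtype.exists_leftInverse_of_injective (by simp)
  let P : A →ₗ[k] A := S.subtype ∘ₗ π
  have hP : ∀ s ∈ S, P s = s := fun s hs =>
    congrArg Subtype.val (LinearMap.congr_fun hπ ⟨s, hs⟩)
  have hPm : ∀ a, P a ∈ S := fun a => (π a).2
  have h1 : P.rTensor A z = z := by
    apply eq_of_contr
    intro f
    rw [← hP _ (h f)]
    generalize z = w
    induction w with
    | zero => simp
    | add x y hx hy => simp only [map_add, hx, hy]
    | tmul x y => simp
  have h2 : P.lTensor A z = z := by
    have h3 := congrArg (TensorProduct.comm k A A) h1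
    have h4 : ∀ w : A ⊗[k] A, TensorProduct.comm k A A (P.rTensor A w) =
        P.lTensor A (TensorProduct.comm k A A w) := by
      intro w
      induction w with
      | zero => simp
      | add x y hx hy => simp only [map_add, hx, hy]
      | tmul x y => simp
    rwa [h4, hz] at h3
  rw [← h1, ← h2]
  clear h1 h2
  generalize z = w
  induction w with
  | zero => simp
  | add x y hx hy =>
    rw [map_add, map_add]
    exact Submodule.add_mem _ hx hy
  | tmul x y' =>
    rw [LinearMap.lTensor_tmul, LinearMap.rTensor_tmul]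
    have h1 := hPm x
    have h2 := hPm y'
    generalize P x = u at h1
    generalize P y' = v at h2
    rw [hS] at h1 h2
    induction h1 using Submodule.span_induction with
    | mem u hu =>
      obtain ⟨b, rfl⟩ := hu
      induction h2 using Submodule.span_induction with
      | mem v hv =>
        obtain ⟨c, rfl⟩ := hv
        exact Submodule.subset_span ⟨(b, c), rfl⟩
      | zero => rw [tmul_zero]; exact Submodule.zero_mem _
      | add v w _ _ h3 h4 => rw [tmul_add]; exact Submodule.add_mem _ h3 h4
      | smul r v _ h3 => rw [tmul_smul]; exact Submodule.smul_mem _ _ h3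
    | zero => rw [zero_tmul]; exact Submodule.zero_mem _
    | add v w _ _ h3 h4 => rw [add_tmul]; exact Submodule.add_mem _ h3 h4
    | smul r v _ h3 => rw [← smul_tmul']; exact Submodule.smul_mem _ _ h3

omit [DecidableEq ι] in
include hlam in
lemma eq_zero_of_two {w : A ⊗[k] A} (hw : w ∈ SS k y)
    (h : ∀ a b, two (lam a) (lam b) w = 0) : w = 0 := by
  obtain ⟨F, hF⟩ := Finsupp.mem_span_range_iff_exists_finsupp.1 hw
  have h1 : ∀ x, F x = 0 := by
    rintro ⟨a, b⟩
    have h2 := h a b
    rw [← hF, Finsupp.sum, map_sum] at h2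
    have h3 : ∀ x ∈ F.support, two (lam a) (lam b) (F x • (mon y x.1 ⊗ₜ[k] mon y x.2)) =
        F x * (if x = (a, b) then 1 else 0) := by
      rintro ⟨x1, x2⟩ _
      rw [map_smul, two_tmul, smul_eq_mul, hlam, hlam]
      by_cases h4 : a = x1
      · by_cases h5 : b = x2
        · rw [if_pos h4, if_pos h5, if_pos (by rw [h4, h5]), one_mul]
        · rw [if_neg h5, if_neg (fun h => h5 (Prod.mk.inj h).2.symm), mul_zero]
      · rw [if_neg h4, if_neg (fun h => h4 (Prod.mk.inj h).1.symm), zero_mul]
    rw [Finset.sum_congr rfl h3, coord_sum, mul_one] at h2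
    exact h2
  have h2 : F = 0 := Finsupp.ext h1
  rw [← hF, h2, Finsupp.sum_zero_index]

include hy hlam in
/-- The main step: an element whose coproduct is `a ⊗ 1 + 1 ⊗ a` up to the span of the
tensors of monomials is, up to the span of monomials, primitive. -/
theorem exists_prim (p : ℕ) [hp : Fact p.Prime] [CharP k p] (a : A)
    (h0 : CoalgebraStruct.counit (R := k) a = 0)
    (hsymm : TensorProduct.comm k A A (CoalgebraStruct.comul (R := k) a) =
      CoalgebraStruct.comul (R := k) a)
    (htor : psi k A p a = 0)
    (hz : CoalgebraStruct.comul (R := k) a - a ⊗ₜ[k] (1 : A) - (1 : A) ⊗ₜ[k] a ∈ SS k y) :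
    ∃ g ∈ Submodule.span k (Set.range (mon y)), IsPrim k (a - g) := by
  set z := CoalgebraStruct.comul (R := k) a - a ⊗ₜ[k] (1 : A) - (1 : A) ⊗ₜ[k] a with hzdef
  obtain ⟨F, hF⟩ := Finsupp.mem_span_range_iff_exists_finsupp.1 hz
  have hΔ : CoalgebraStruct.comul (R := k) a = z + a ⊗ₜ[k] (1 : A) + (1 : A) ⊗ₜ[k] a := by
    rw [hzdef]; abel
  -- linear functionals on `z`
  have hT : ∀ {M : Type u} [AddCommGroup M] [Module k M] (T : A ⊗[k] A →ₗ[k] M),
      T z = ∑ x ∈ F.support, F x • T (mon y x.1 ⊗ₜ[k] mon y x.2) := by
    intro M _ _ T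
    rw [← hF, Finsupp.sum, map_sum]
    exact Finset.sum_congr rfl fun x _ => map_smul _ _ _
  have hT' : ∀ {M : Type v} [AddCommGroup M] [Module k M] (T : A ⊗[k] A →ₗ[k] M),
      T z = ∑ x ∈ F.support, F x • T (mon y x.1 ⊗ₜ[k] mon y x.2) := by
    intro M _ _ T
    rw [← hF, Finsupp.sum, map_sum]
    exact Finset.sum_congr rfl fun x _ => map_smul _ _ _
  -- coordinates
  have hco : ∀ b c, two (lam b) (lam c) z = F (b, c) := by
    intro b c
    rw [hT (two (lam b) (lam c))]
    have h3 : ∀ x ∈ F.support, F x • two (lam b) (lam c) (mon y x.1 ⊗ₜ[k] mon y x.2) =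
        F x * (if x = (b, c) then 1 else 0) := by
      rintro ⟨x1, x2⟩ _
      rw [two_tmul, smul_eq_mul, hlam, hlam]
      by_cases h4 : b = x1
      · by_cases h5 : c = x2
        · rw [if_pos h4, if_pos h5, if_pos (by rw [h4, h5]), one_mul]
        · rw [if_neg h5, if_neg (fun h => h5 (Prod.mk.inj h).2.symm), mul_zero]
      · rw [if_neg h4, if_neg (fun h => h4 (Prod.mk.inj h).1.symm), zero_mul]
    rw [Finset.sum_congr rfl h3, coord_sum, mul_one]
  -- symmetry
  have hzc : TensorProduct.comm k A A z = z := by
    rw [hzdef, map_sub, map_sub, hsymm, TensorProduct.comm_tmul, TensorProduct.comm_tmul]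
    abel
  have hsym : ∀ b c, F (b, c) = F (c, b) := by
    intro b c
    rw [← hco, ← hco, ← two_comm, hzc]
  -- normalisation
  have hF0 : ∀ b, F (b, 0) = 0 := by
    intro b
    have h1 : TensorProduct.rid k A ((CoalgebraStruct.counit (R := k) (A := A)).lTensor A z) = 0 := by
      rw [hzdef]
      simp only [map_sub, Coalgebra.lTensor_counit_comul, LinearMap.lTensor_tmul, h0,
        Bialgebra.counit_one, tmul_zero, sub_self, map_zero]
    have h2 := congrArg (lam b) h1
    let T : A ⊗[k] A →ₗ[k] k := lam b ∘ₗ (TensorProduct.rid k A).toLinearMap ∘ₗ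
      (CoalgebraStruct.counit (R := k) (A := A)).lTensor A
    have h3 : T z = 0 := by rw [map_zero] at h2; exact h2
    rw [hT T] at h3
    have h4 : ∀ x ∈ F.support, F x • T (mon y x.1 ⊗ₜ[k] mon y x.2) =
        F x * (if x = (b, 0) then 1 else 0) := by
      rintro ⟨x1, x2⟩ _
      have h5 : T (mon y x1 ⊗ₜ[k] mon y x2) =
          CoalgebraStruct.counit (R := k) (mon y x2) * lam b (mon y x1) := by
        simp [T]
      rw [h5, smul_eq_mul, hlam]
      by_cases h6 : x2 = 0
      · rw [h6, mon_zero, Bialgebra.counit_one, one_mul]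
        by_cases h4 : b = x1
        · rw [if_pos h4, if_pos (by rw [h4])]
        · rw [if_neg h4, if_neg (fun h => h4 (Prod.mk.inj h).1.symm)]
      · rw [counit_mon hy h6, zero_mul, if_neg (fun h => h6 (Prod.mk.inj h).2)]
    rw [Finset.sum_congr rfl h4, coord_sum, mul_one] at h3
    exact h3
  have hF0' : ∀ b, F (0, b) = 0 := fun b => by rw [hsym, hF0]
  -- the cocycle relation
  have hcoc : ∀ b c d, b ≠ 0 → d ≠ 0 →
      (mch (b + c) b : k) * F (b + c, d) = mch (c + d) c * F (b, c + d) := by
    intro b c d hb hd
    have h1 := Coalgebra.coassoc_apply (R := k) a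
    have h2 := congrArg (three (lam b) (lam c) (lam d)) h1
    have hb1 := lam_one hlam hb
    have hd1 := lam_one hlam hd
    rw [hΔ] at h2
    simp only [map_add, LinearMap.rTensor_tmul, LinearMap.lTensor_tmul, Bialgebra.comul_one,
      Algebra.TensorProduct.one_def, three_tmul, three_assoc_tmul, two_tmul, hb1, hd1, mul_zero,
      zero_mul, add_zero] at h2
    let T1 : A ⊗[k] A →ₗ[k] k := three (lam b) (lam c) (lam d) ∘ₗ
      (TensorProduct.assoc k A A A).toLinearMap ∘ₗ (CoalgebraStruct.comul (R := k) (A := A)).rTensor A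
    let T2 : A ⊗[k] A →ₗ[k] k := three (lam b) (lam c) (lam d) ∘ₗ
      (CoalgebraStruct.comul (R := k) (A := A)).lTensor A
    have h3 : T1 z = T2 z := h2
    rw [hT T1, hT T2] at h3
    have h4 : ∀ x ∈ F.support, F x • T1 (mon y x.1 ⊗ₜ[k] mon y x.2) =
        F x * (if x = (b + c, d) then (mch x.1 b : k) else 0) := by
      rintro ⟨x1, x2⟩ _
      have h5 : T1 (mon y x1 ⊗ₜ[k] mon y x2) =
          two (lam b) (lam c) (CoalgebraStruct.comul (R := k) (mon y x1)) * lam d (mon y x2) := by
        simp only [T1, LinearMap.comp_apply, LinearMap.rTensor_tmul, LinearEquiv.coe_coe,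
          three_assoc_tmul]
      rw [h5, smul_eq_mul, hlam, two_comul_mon hy lam hlam]
      by_cases h4 : b + c = x1
      · by_cases h5 : d = x2
        · rw [if_pos h4, if_pos h5, if_pos (by rw [h4, h5]), mul_one]
        · rw [if_neg h5, if_neg (fun h => h5 (Prod.mk.inj h).2.symm), mul_zero]
      · rw [if_neg h4, if_neg (fun h => h4 (Prod.mk.inj h).1.symm), zero_mul]
    have h5 : ∀ x ∈ F.support, F x • T2 (mon y x.1 ⊗ₜ[k] mon y x.2) =
        F x * (if x = (b, c + d) then (mch x.2 c : k) else 0) := by
      rintro ⟨x1, x2⟩ _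
      have h5 : T2 (mon y x1 ⊗ₜ[k] mon y x2) =
          lam b (mon y x1) * two (lam c) (lam d) (CoalgebraStruct.comul (R := k) (mon y x2)) := by
        simp only [T2, LinearMap.comp_apply, LinearMap.lTensor_tmul, three_tmul]
      rw [h5, smul_eq_mul, hlam, two_comul_mon hy lam hlam]
      by_cases h4 : c + d = x2
      · by_cases h5 : b = x1
        · rw [if_pos h4, if_pos h5, if_pos (by rw [h4, h5]), one_mul]
        · rw [if_neg h5, if_neg (fun h => h5 (Prod.mk.inj h).1.symm), zero_mul]
      · rw [if_neg h4, if_neg (fun h => h4 (Prod.mk.inj h).2.symm), mul_zero]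
    rw [Finset.sum_congr rfl h4, Finset.sum_congr rfl h5, coord_sum, coord_sum] at h3
    linear_combination h3
  -- the torsion relation
  have hpsi : ∀ m : ℕ, psi k A m a = (m : k) • a + ∑ j ∈ Finset.range m, ∑ x ∈ F.support,
      F x • ((j : k) ^ deg x.1 • mon y (x.1 + x.2)) := by
    intro m
    induction m with
    | zero => rw [psi_zero, h0, map_zero, Nat.cast_zero, zero_smul, Finset.range_zero,
        Finset.sum_empty, add_zero]
    | succ m ih =>
      rw [psi_succ, hΔ]
      simp only [map_add, TensorProduct.map_tmul, LinearMap.mul'_apply,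
        AlgHom.toLinearMap_apply, LinearMap.id_apply, map_one, mul_one, one_mul]
      have h1 := hT' (LinearMap.mul' k A ∘ₗ
        TensorProduct.map (psi k A m).toLinearMap (LinearMap.id : A →ₗ[k] A))
      have h2 : ∀ x ∈ F.support, F x • (LinearMap.mul' k A ∘ₗ
        TensorProduct.map (psi k A m).toLinearMap (LinearMap.id : A →ₗ[k] A))
          (mon y x.1 ⊗ₜ[k] mon y x.2) = F x • ((m : k) ^ deg x.1 • mon y (x.1 + x.2)) := by
        intro x _
        rw [LinearMap.comp_apply, TensorProduct.map_tmul, LinearMap.mul'_apply,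
          AlgHom.toLinearMap_apply, psi_mon hy, LinearMap.id_apply, smul_mul_assoc, ← mon_add]
      rw [Finset.sum_congr rfl h2, LinearMap.comp_apply] at h1
      rw [h1, ih, Finset.sum_range_succ, Nat.cast_add, Nat.cast_one, add_smul, one_smul]
      abel
  have hpow : ∀ d, ∑ x ∈ F.support, (if x.1 + x.2 = d then
      F x * ∑ j ∈ Finset.range p, (j : k) ^ deg x.1 else 0) = 0 := by
    intro d
    have h1 := hpsi p
    rw [htor, CharP.cast_eq_zero, zero_smul, zero_add] at h1
    have h2 := congrArg (lam d) h1
    rw [map_zero, map_sum] at h2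
    refine Eq.trans ?_ h2.symm
    rw [Finset.sum_congr rfl fun j _ => map_sum (lam d) _ _, Finset.sum_comm]
    refine Finset.sum_congr rfl fun x _ => ?_
    by_cases hx : x.1 + x.2 = d
    · rw [if_pos hx, Finset.mul_sum]
      refine Finset.sum_congr rfl fun j _ => ?_
      rw [map_smul, map_smul, hlam, if_pos hx.symm, smul_eq_mul, smul_eq_mul, mul_one]
    · rw [if_neg hx]
      symm
      refine Finset.sum_eq_zero fun j _ => ?_
      rw [map_smul, map_smul, hlam, if_neg (Ne.symm hx), smul_zero, smul_zero]
  -- the coboundary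
  have hgam : ∀ d : ι → ℕ, d ≠ 0 → ∃ γ : k, ∀ b c, b + c = d → b ≠ 0 → c ≠ 0 →
      F (b, c) = γ * mch d b := by
    intro d hd
    have key := comb (k := k) p (∑ i, d i) d (fun b => F (b, d - b)) le_rfl hd ?_ ?_ ?_
    · obtain ⟨γ, hγ⟩ := key
      refine ⟨γ, fun b c hbc hb hc => ?_⟩
      have h1 := hγ b c hbc hb hc
      have h2 : d - b = c := by exact pi_sub_left hbc
      rw [← h1]
      simp only [h2]
    · intro b c hbc _ _
      have h1 : d - b = c := by exact pi_sub_left hbc
      have h2 : d - c = b := by exact pi_sub_right hbc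
      simp only [h1, h2]
      exact hsym b c
    · intro b c e hd' hb he
      have h1 : d - (b + c) = e := pi_sub_left hd'
      have h2 : d - b = c + e := pi_sub_left (by rw [← add_assoc]; exact hd')
      simp only [h1, h2]
      exact hcoc b c e hb he
    · intro i s hds hsupp
      have hp1 := hp.out.one_lt
      have hps : 0 < p ^ s := pow_pos hp.out.pos s
      set x₀ : (ι → ℕ) × (ι → ℕ) := (Pi.single i ((p - 1) * p ^ s), Pi.single i (p ^ s)) with hx₀
      have hx₀' : x₀.1 + x₀.2 = d := by
        rw [hds, hx₀]
        simp only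
        rw [← Pi.single_add]
        congr 1
        have : p ^ (s + 1) = p * p ^ s := by rw [pow_succ, mul_comm]
        rw [this]
        obtain ⟨q, rfl⟩ : ∃ q, p = q + 1 := ⟨p - 1, by omega⟩
        simp only [Nat.add_sub_cancel]
        ring
      have h1 : d - x₀.1 = x₀.2 := pi_sub_left hx₀'
      have h1' : d - Pi.single i ((p - 1) * p ^ s) = Pi.single i (p ^ s) := h1
      simp only [h1']
      have h2 := hpow d
      -- all the other terms vanish
      have h3 : ∀ x ∈ F.support, x ≠ x₀ → (if x.1 + x.2 = d then
          F x * ∑ j ∈ Finset.range p, (j : k) ^ deg x.1 else 0) = 0 := by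
        rintro ⟨b, c⟩ _ hx
        by_cases hbc : b + c = d
        swap
        · rw [if_neg hbc]
        rw [if_pos hbc]
        by_cases hb : b = 0
        · rw [hb, hF0', zero_mul]
        by_cases hc : c = 0
        · rw [hc, hF0, zero_mul]
        by_cases hdiv : ∃ j, ¬ p ^ s ∣ b j
        · have h4 := hsupp b c hbc hb hc hdiv
          have h5 : d - b = c := by exact pi_sub_left hbc
          simp only [h5] at h4
          rw [h4, zero_mul]
        · push Not at hdiv
          obtain ⟨t, ht⟩ := hdiv i
          have hj : ∀ j, j ≠ i → b j = 0 ∧ c j = 0 := by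
            intro j hj
            have h4 := congrFun hbc j
            rw [hds, Pi.single_eq_of_ne hj, Pi.add_apply] at h4
            omega
          have hi : b i + c i = p ^ (s + 1) := by
            have h4 := congrFun hbc i
            rwa [hds, Pi.single_eq_same, Pi.add_apply] at h4
          have hbi : b = Pi.single i (t * p ^ s) := by
            funext j
            by_cases hji : j = i
            · subst hji
              rw [Pi.single_eq_same, ht, mul_comm]
            · rw [Pi.single_eq_of_ne hji, (hj j hji).1]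
          have ht0 : t ≠ 0 := by
            rintro rfl
            apply hb
            rw [hbi, zero_mul, Pi.single_zero]
          have htp : t < p := by
            by_contra hcon
            push Not at hcon
            have h4 : p * p ^ s ≤ t * p ^ s := Nat.mul_le_mul_right _ hcon
            have h5 : p ^ (s + 1) = p * p ^ s := by rw [pow_succ, mul_comm]
            have h6 : b i = t * p ^ s := by rw [ht, mul_comm]
            have h7 : c i = 0 := by omega
            apply hc
            funext j
            by_cases hji : j = i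
            · rw [hji, h7]; rfl
            · rw [(hj j hji).2]; rfl
          have htp1 : t ≠ p - 1 := by
            rintro rfl
            apply hx
            have h4 : c = Pi.single i (p ^ s) := by
              have h5 : d - b = c := by exact pi_sub_left hbc
              rw [← h5, hbi]
              exact h1
            rw [hx₀, ← hbi, ← h4]
          have hdeg : deg b = t * p ^ s := by
            rw [hbi, deg, Finset.sum_pi_single', if_pos (Finset.mem_univ i)]
          have hsum : ∑ j ∈ Finset.range p, (j : k) ^ deg b = 0 := by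
            rw [← sum_pow_lt k p (t := t) (by omega)]
            refine Finset.sum_congr rfl fun j _ => ?_
            rw [hdeg, mul_comm, pow_mul, cast_pow_p_pow]
          simp only [hsum, mul_zero]
      rw [Finset.sum_eq_single x₀ h3] at h2
      · rw [if_pos hx₀'] at h2
        have hdeg : deg x₀.1 = (p - 1) * p ^ s := by
          rw [hx₀, deg, Finset.sum_pi_single', if_pos (Finset.mem_univ i)]
        have hsum : ∑ j ∈ Finset.range p, (j : k) ^ deg x₀.1 = -1 := by
          rw [← sum_pow_top k p]
          refine Finset.sum_congr rfl fun j _ => ?_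
          rw [hdeg, mul_comm, pow_mul, cast_pow_p_pow]
        rw [hsum] at h2
        have h4 : F x₀ = 0 := by linear_combination -h2
        exact h4
      · intro hx
        rw [if_pos hx₀', Finsupp.notMem_support_iff.1 hx, zero_mul]
  choose! γ hγ using hgam
  let D : Finset (ι → ℕ) := F.support.image fun x => x.1 + x.2
  let g : A := ∑ d ∈ D.filter (· ≠ 0), γ d • mon y d
  refine ⟨g, ?_, ?_⟩
  · refine Submodule.sum_mem _ fun d _ => Submodule.smul_mem _ _ (Submodule.subset_span ⟨d, rfl⟩)
  · have h1 : CoalgebraStruct.comul (R := k) (a - g) - (a - g) ⊗ₜ[k] (1 : A) - (1 : A) ⊗ₜ[k] (a - g) = 0 := by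
      have hmm : ∀ b c : ι → ℕ, mon y b ⊗ₜ[k] mon y c ∈ SS k y := fun b c =>
        Submodule.subset_span ⟨(b, c), rfl⟩
      have h2 : CoalgebraStruct.comul (R := k) (a - g) - (a - g) ⊗ₜ[k] (1 : A) -
          (1 : A) ⊗ₜ[k] (a - g) = z - ∑ d ∈ D.filter (· ≠ 0), γ d •
            (CoalgebraStruct.comul (R := k) (mon y d) - mon y d ⊗ₜ[k] mon y 0 -
              mon y 0 ⊗ₜ[k] mon y d) := by
        simp only [mon_zero, smul_sub, Finset.sum_sub_distrib]
        simp only [g, map_sub, map_sum, map_smul, sub_tmul, tmul_sub, sum_tmul, tmul_sum, hzdef,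
          smul_tmul', tmul_smul]
        abel
      rw [h2]
      apply eq_zero_of_two lam hlam
      · refine Submodule.sub_mem _ hz (Submodule.sum_mem _ fun d _ => Submodule.smul_mem _ _
          (Submodule.sub_mem _ (Submodule.sub_mem _ ?_ (hmm _ _)) (hmm _ _)))
        rw [comul_mon hy]
        exact Submodule.sum_mem _ fun x _ => Submodule.smul_mem _ _ (hmm _ _)
      · intro b c
        rw [map_sub, hco, map_sum]
        have h3 : ∀ d ∈ D.filter (· ≠ 0), two (lam b) (lam c) (γ d •
            (CoalgebraStruct.comul (R := k) (mon y d) - mon y d ⊗ₜ[k] mon y 0 -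
              mon y 0 ⊗ₜ[k] mon y d)) = if b + c = d then (if b = 0 then 0 else
                if c = 0 then 0 else γ d * mch d b) else 0 := by
          intro d hd
          have hd0 : d ≠ 0 := (Finset.mem_filter.1 hd).2
          rw [map_smul, map_sub, map_sub, two_comul_mon hy lam hlam, two_tmul, two_tmul, hlam, hlam,
            hlam, hlam, smul_eq_mul]
          by_cases hb : b = 0
          · subst hb
            rw [if_neg (Ne.symm hd0), zero_mul, sub_zero, if_pos rfl, one_mul, zero_add, if_pos rfl,
              ite_self]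
            by_cases hcd : c = d
            · rw [if_pos hcd, if_pos hcd, mch_zero, Nat.cast_one, sub_self, mul_zero]
            · rw [if_neg hcd, if_neg hcd, sub_self, mul_zero]
          · rw [if_neg hb, zero_mul, sub_zero, if_neg hb]
            by_cases hc : c = 0
            · subst hc
              rw [add_zero, if_pos rfl, mul_one, if_pos rfl, ite_self]
              by_cases hbd : b = d
              · rw [if_pos hbd, if_pos hbd, hbd, mch_self, Nat.cast_one, sub_self, mul_zero]
              · rw [if_neg hbd, if_neg hbd, sub_self, mul_zero]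
            · rw [if_neg hc, mul_zero, sub_zero, if_neg hc, mul_ite, mul_zero]
        rw [Finset.sum_congr rfl h3, Finset.sum_ite_eq]
        by_cases hb : b = 0
        · rw [if_pos hb, ite_self, hb, hF0', sub_zero]
        by_cases hc : c = 0
        · rw [if_neg hb, if_pos hc, ite_self, hc, hF0, sub_zero]
        rw [if_neg hb, if_neg hc]
        have hbc0 : b + c ≠ 0 := by
          intro h
          apply hb
          funext i
          have := congrFun h i
          simp only [Pi.add_apply, Pi.zero_apply] at this ⊢
          omega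
        by_cases hm : b + c ∈ D.filter (· ≠ 0)
        · rw [if_pos hm, hγ (b + c) hbc0 b c rfl hb hc, sub_self]
        · rw [if_neg hm, sub_zero]
          by_contra hF'
          apply hm
          rw [Finset.mem_filter]
          exact ⟨Finset.mem_image.2 ⟨(b, c), Finsupp.mem_support_iff.2 hF', rfl⟩, hbc0⟩
    have h2 : CoalgebraStruct.comul (R := k) (a - g) = (a - g) ⊗ₜ[k] (1 : A) +
        (1 : A) ⊗ₜ[k] (a - g) := by
      rw [sub_sub, sub_eq_zero] at h1
      exact h1
    exact h2

omit hlam hy in
include hy in
/-- **Generation by primitive elements.** -/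
theorem adjoin_eq_top [Coalgebra.IsCocomm k A] (p : ℕ) [hp : Fact p.Prime] [CharP k p]
    (h1 : ∀ a : A, ∃ n, a ∈ soc k A A n)
    (h2 : ∀ a : A, psi k A p a = algebraMap k A (CoalgebraStruct.counit a))
    (hli : LinearIndependent k (mon y))
    (hall : ∀ x : A, IsPrim k x → x ∈ Algebra.adjoin k (Set.range y)) :
    Algebra.adjoin k (Set.range y) = ⊤ := by
  have hS := adjoin_eq_span_mon (k := k) y
  obtain ⟨lam, hlam'⟩ := exists_dual (mon y) Set.univ (linearIndepOn_univ_iff.2 hli)
  have hlam : ∀ a b, lam a (mon y b) = if a = b then 1 else 0 := fun a b =>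
    hlam' a (Set.mem_univ a) b (Set.mem_univ b)
  have key : ∀ N, ∀ a ∈ soc k A A N, a ∈ Submodule.span k (Set.range (mon y)) := by
    intro N
    induction N with
    | zero =>
      intro a ha
      rw [soc_zero, Submodule.mem_bot] at ha
      rw [ha]
      exact Submodule.zero_mem _
    | succ N ih =>
      -- the case of counit zero
      have h0 : ∀ a ∈ soc k A A (N + 1), CoalgebraStruct.counit (R := k) a = 0 →
          a ∈ Submodule.span k (Set.range (mon y)) := by
        intro a ha ha0
        have hsymm : TensorProduct.comm k A A (CoalgebraStruct.comul (R := k) a) =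
            CoalgebraStruct.comul (R := k) a := Coalgebra.comm_comul k a
        have hz : CoalgebraStruct.comul (R := k) a - a ⊗ₜ[k] (1 : A) - (1 : A) ⊗ₜ[k] a ∈ SS k y := by
          apply mem_SS_of_contr
          · rw [map_sub, map_sub, hsymm, TensorProduct.comm_tmul, TensorProduct.comm_tmul]
            abel
          · intro f
            rw [map_sub, map_sub, contr_tmul, contr_tmul, ← cact_regular]
            have h3 : cact f a - f 1 • a = cact (f - f 1 • CoalgebraStruct.counit (R := k)) a := by
              have h4 : cact (f - f 1 • CoalgebraStruct.counit (R := k)) a =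
                  cact f a - f 1 • cact (CoalgebraStruct.counit (R := k) (A := A)) a := by
                simp only [cact_regular]
                generalize CoalgebraStruct.comul (R := k) a = w
                induction w with
                | zero => simp
                | add x y hx hy => simp only [map_add, hx, hy, smul_add]; abel
                | tmul x y => simp [sub_smul, mul_smul]
              rw [h4, cact_counit]
            rw [h3]
            refine Submodule.sub_mem _ (ih _ (mem_soc_succ.1 ha _ (by simp))) ?_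
            refine Submodule.smul_mem _ _ (Submodule.subset_span ⟨0, mon_zero y⟩)
        obtain ⟨g, hg, hag⟩ := exists_prim hy lam hlam p a ha0 hsymm
          (by rw [h2, ha0, map_zero]) hz
        have h3 := hall _ hag
        rw [← Subalgebra.mem_toSubmodule, hS] at h3
        have h4 := Submodule.add_mem _ h3 hg
        rwa [sub_add_cancel] at h4
      intro a ha
      have h3 : (1 : A) ∈ soc k A A (N + 1) := by
        apply soc_mono (Nat.le_add_left 1 N)
        rw [soc_one_regular]
        exact Submodule.mem_span_singleton_self _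
      have h4 := h0 (a - CoalgebraStruct.counit (R := k) a • (1 : A))
        (Submodule.sub_mem _ ha (Submodule.smul_mem _ _ h3)) (by
          rw [map_sub, map_smul, Bialgebra.counit_one, smul_eq_mul, mul_one, sub_self])
      have h5 := Submodule.add_mem _ h4 (Submodule.smul_mem _ (CoalgebraStruct.counit (R := k) a)
        (Submodule.subset_span (s := Set.range (mon y)) ⟨0, mon_zero y⟩))
      rwa [sub_add_cancel] at h5
  rw [eq_top_iff]
  intro a _
  obtain ⟨N, hN⟩ := h1 a
  rw [← Subalgebra.mem_toSubmodule, hS]
  exact key N a hN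

end main

end Groth.Agent.Agf.H621.VecGen
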