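import Groth.Agent.Agf.H621.VecGen
import Groth.Agent.Sga3.H785.HopfCorr
import Mathlib.RingTheory.AlgebraicIndependent.Basic
import Mathlib.RingTheory.FiniteType
import Mathlib.LinearAlgebra.Basis.Basic

/-!
# Commutative unipotent groups killed by `p` over a perfect field are vector groups

Main theorem `vector_group`: let `k` be a perfect field of characteristic `p` and `A` a finitely
generated commutative cocommutative Hopf algebra which is a domain, exhausted by its socle filtration
and killed by `p`.  Then `A` is a polynomial algebra on primitive elements.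
-/

set_option autoImplicit false

universe u

open TensorProduct WithConv Polynomial
open Groth.Agent.Books.CharZeroUnip2 Groth.Agent.Books.CharZeroUnip Groth.Agent.Books.ComodSocle
open Groth.Agent.Agf.H621.PrimMon Groth.Agent.Agf.H621.AddEv Groth.Agent.Agf.H621.VecGen

namespace Groth.Agent.Agf.H621.VecGrp

section prim

variable {k : Type u} {A : Type u} [Field k] [CommRing A] [Bialgebra k A]

lemma isPrim_iff {x : A} : IsPrim k x ↔ CoalgebraStruct.comul (R := k) x =
    x ⊗ₜ[k] (1 : A) + (1 : A) ⊗ₜ[k] x := Iff.rfl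

lemma isPrim_zero : IsPrim k (0 : A) := by
  rw [isPrim_iff, map_zero, zero_tmul, tmul_zero, add_zero]

lemma isPrim_add {x y : A} (hx : IsPrim k x) (hy : IsPrim k y) : IsPrim k (x + y) := by
  rw [isPrim_iff] at hx hy ⊢
  rw [map_add, hx, hy, add_tmul, tmul_add]
  abel

lemma isPrim_smul (c : k) {x : A} (hx : IsPrim k x) : IsPrim k (c • x) := by
  rw [isPrim_iff] at hx ⊢
  rw [map_smul, hx, smul_add, smul_tmul', tmul_smul]

lemma isPrim_neg {x : A} (hx : IsPrim k x) : IsPrim k (-x) := by
  have := isPrim_smul (-1 : k) hx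
  rwa [neg_smul, one_smul] at this

lemma isPrim_sub {x y : A} (hx : IsPrim k x) (hy : IsPrim k y) : IsPrim k (x - y) := by
  rw [sub_eq_add_neg]
  exact isPrim_add hx (isPrim_neg hy)

lemma isPrim_pow (p : ℕ) [hp : Fact p.Prime] [CharP k p] {x : A} (hx : IsPrim k x) :
    IsPrim k (x ^ p) := by
  have hnt : Nontrivial A := ⟨⟨1, 0, fun h => by
    have := congrArg (CoalgebraStruct.counit (R := k)) h
    rw [Bialgebra.counit_one, map_zero] at this
    exact one_ne_zero this⟩⟩
  have hinj : Function.Injective (algebraMap k (A ⊗[k] A)) := by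
    intro a b hab
    have h1 := congrArg (fun z => LinearMap.mul' k k (TensorProduct.map
      (CoalgebraStruct.counit (R := k) (A := A)) (CoalgebraStruct.counit (R := k) (A := A)) z)) hab
    simpa [Algebra.TensorProduct.algebraMap_apply] using h1
  have : CharP (A ⊗[k] A) p := charP_of_injective_algebraMap hinj p
  rw [isPrim_iff] at hx ⊢
  have h1 : CoalgebraStruct.comul (R := k) (x ^ p) = CoalgebraStruct.comul (R := k) x ^ p :=
    map_pow (Bialgebra.comulAlgHom k A) x p
  rw [h1, hx, add_pow_char, Algebra.TensorProduct.tmul_pow, Algebra.TensorProduct.tmul_pow,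
    one_pow]

/-- A domain has no nonzero algebraic element killed by the counit. -/
lemma eq_zero_of_aeval [IsDomain A] {x : A} (hx : CoalgebraStruct.counit (R := k) x = 0)
    {Q : k[X]} (hQ : Q ≠ 0) (h : aeval x Q = 0) : x = 0 := by
  obtain ⟨R, hR, hR0⟩ := Polynomial.exists_eq_pow_rootMultiplicity_mul_and_not_dvd Q hQ 0
  rw [map_zero, sub_zero] at hR hR0
  rw [Polynomial.X_dvd_iff] at hR0
  rw [hR, map_mul, map_pow, aeval_X] at h
  rcases mul_eq_zero.1 h with h | h
  · exact eq_zero_of_pow_eq_zero h
  · exfalso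
    apply hR0
    have h1 := congrArg (Bialgebra.counitAlgHom k A) h
    rw [← Polynomial.aeval_algHom_apply, map_zero] at h1
    have h2 : Bialgebra.counitAlgHom k A x = 0 := hx
    rw [h2, Polynomial.aeval_def, Polynomial.eval₂_at_zero] at h1
    exact h1

omit [Bialgebra k A] in
lemma aeval_ev [Algebra k A] (p : ℕ) (x : A) (q : k[X]) :
    aeval x (ev p (X : k[X]) q) = ev p x q := by
  induction q using Polynomial.induction_on' with
  | add q r hq hr => rw [map_add, map_add, hq, hr, map_add]
  | monomial j c => rw [ev_monomial, ev_monomial, map_smul, map_pow, aeval_X]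

lemma ev_X_ne_zero (p : ℕ) [hp : Fact p.Prime] {q : k[X]} (hq : q ≠ 0) :
    ev p (X : k[X]) q ≠ 0 := by
  intro h
  apply hq
  ext j
  have h1 : ∀ r : k[X], (ev p (X : k[X]) r).coeff (p ^ j) = r.coeff j := by
    intro r
    induction r using Polynomial.induction_on' with
    | add q r hq hr => rw [map_add, coeff_add, coeff_add, hq, hr]
    | monomial l c =>
      rw [ev_monomial, coeff_smul, coeff_X_pow, coeff_monomial, smul_eq_mul]
      by_cases hl : l = j
      · rw [if_pos hl, if_pos (by rw [hl]), mul_one]
      · rw [if_neg hl, if_neg, mul_zero]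
        intro h'
        exact hl (Nat.pow_right_injective hp.out.two_le h').symm
  rw [← h1, h, coeff_zero, coeff_zero]

lemma torsionFree [IsDomain A] (p : ℕ) [hp : Fact p.Prime] {x : A} (hx : IsPrim k x)
    {q : k[X]} (hq : q ≠ 0) (h : ev p x q = 0) : x = 0 :=
  eq_zero_of_aeval hx.counit (ev_X_ne_zero p hq) (by rw [aeval_ev, h])

end prim

section hopf

variable {k : Type u} {A : Type u} [Field k] [CommRing A] [HopfAlgebra k A]

lemma antipode_prim {x : A} (hx : IsPrim k x) : HopfAlgebraStruct.antipode k x = -x := by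
  have h1 := HopfAlgebra.mul_antipode_rTensor_comul_apply (R := k) x
  have h2 : CoalgebraStruct.comul (R := k) x = x ⊗ₜ[k] (1 : A) + (1 : A) ⊗ₜ[k] x := hx
  have h3 : HopfAlgebraStruct.antipode k (1 : A) = 1 := HopfAlgebra.antipode_one
  rw [h2, hx.counit, map_zero, map_add, map_add, LinearMap.rTensor_tmul, LinearMap.rTensor_tmul,
    LinearMap.mul'_apply, LinearMap.mul'_apply, mul_one, h3, one_mul] at h1
  exact eq_neg_of_add_eq_zero_left h1

/-- The subalgebra generated by primitive elements is a sub-Hopf-algebra. -/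
theorem isHopfSubalgebra_adjoin {s : Set A} (hs : ∀ x ∈ s, IsPrim k x) :
    SGA3.IsHopfSubalgebra k A (Algebra.adjoin k s) := by
  set B := Algebra.adjoin k s with hB
  constructor
  · intro b hb
    have h0 : (Algebra.TensorProduct.map B.val B.val).range =
        (Algebra.TensorProduct.map B.val B.val).range := rfl
    have h1 : B ≤ ((Algebra.TensorProduct.map B.val B.val).range).comap
        (Bialgebra.comulAlgHom k A) := by
      rw [hB]
      apply Algebra.adjoin_le
      intro x hx
      change Bialgebra.comulAlgHom k A x ∈ (Algebra.TensorProduct.map B.val B.val).range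
      have h2 : Bialgebra.comulAlgHom k A x = x ⊗ₜ[k] (1 : A) + (1 : A) ⊗ₜ[k] x := hs x hx
      have h3 : x ∈ B := Algebra.subset_adjoin hx
      rw [h2]
      exact ⟨(⟨x, h3⟩ : B) ⊗ₜ[k] (1 : B) + (1 : B) ⊗ₜ[k] (⟨x, h3⟩ : B), by simp⟩
    obtain ⟨z, hz⟩ := h1 hb
    exact ⟨z, hz⟩
  · intro b hb
    have h1 : B ≤ B.comap (HopfAlgebra.antipodeAlgHom k A) := by
      rw [hB]
      apply Algebra.adjoin_le
      intro x hx
      have h2 : HopfAlgebra.antipodeAlgHom k A x = -x := antipode_prim (hs x hx)
      change HopfAlgebra.antipodeAlgHom k A x ∈ Algebra.adjoin k s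
      rw [h2]
      exact neg_mem (Algebra.subset_adjoin hx)
    exact h1 hb

theorem augIdealSpan_adjoin {s : Set A} (hs : ∀ x ∈ s, CoalgebraStruct.counit (R := k) x = 0) :
    SGA3.augIdealSpan k A (Algebra.adjoin k s) = Ideal.span s := by
  apply le_antisymm
  · rw [SGA3.augIdealSpan, Ideal.span_le]
    rintro a ⟨ha, ha0⟩
    have h1 : ∀ b ∈ Algebra.adjoin k s, b - algebraMap k A (CoalgebraStruct.counit (R := k) b) ∈
        Ideal.span s := by
      intro b hb
      induction hb using Algebra.adjoin_induction with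
      | mem x hx =>
        rw [hs x hx, map_zero, sub_zero]
        exact Ideal.subset_span hx
      | algebraMap r =>
        rw [Bialgebra.counit_algebraMap, sub_self]
        exact zero_mem _
      | add x y _ _ hx hy =>
        rw [map_add, map_add, add_sub_add_comm]
        exact add_mem hx hy
      | mul x y _ _ hx hy =>
        rw [Bialgebra.counit_mul, map_mul]
        have h2 : x * y - algebraMap k A (CoalgebraStruct.counit (R := k) x) *
            algebraMap k A (CoalgebraStruct.counit (R := k) y) =
            x * (y - algebraMap k A (CoalgebraStruct.counit (R := k) y)) +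
            algebraMap k A (CoalgebraStruct.counit (R := k) y) *
            (x - algebraMap k A (CoalgebraStruct.counit (R := k) x)) := by ring
        rw [h2]
        exact add_mem (Ideal.mul_mem_left _ _ hy) (Ideal.mul_mem_left _ _ hx)
    have h2 := h1 a ha
    rwa [ha0, map_zero, sub_zero] at h2
  · rw [Ideal.span_le]
    intro x hx
    exact Ideal.subset_span ⟨Algebra.subset_adjoin hx, hs x hx⟩

/-- Finitely many primitive elements generate all of them as an algebra. -/
theorem exists_finite_prim [IsNoetherianRing A] : ∃ (n : ℕ) (x : Fin n → A),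
    (∀ i, IsPrim k (x i)) ∧ Algebra.adjoin k {x : A | IsPrim k x} ≤
      Algebra.adjoin k (Set.range x) := by
  classical
  set s : Set A := {x : A | IsPrim k x} with hs
  obtain ⟨t, ht, hts⟩ := Submodule.fg_span_iff_fg_span_finset_subset s |>.1
    (IsNoetherian.noetherian (Ideal.span s))
  have hts' : Ideal.span (t : Set A) = Ideal.span s := hts.symm
  have h1 : ∀ x ∈ (t : Set A), IsPrim k x := fun x hx => ht hx
  have h1' : ∀ x ∈ s, IsPrim k x := fun x hx => hx
  have h2 : SGA3.augIdealSpan k A (Algebra.adjoin k (t : Set A)) =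
      SGA3.augIdealSpan k A (Algebra.adjoin k s) := by
    rw [augIdealSpan_adjoin fun x hx => (h1 x hx).counit,
      augIdealSpan_adjoin fun x hx => (h1' x hx).counit, hts']
  have h3 : Algebra.adjoin k (t : Set A) = Algebra.adjoin k s := by
    rw [← Groth.Agent.Sga3.H785.HopfCorr.coinv_augIdealSpan (isHopfSubalgebra_adjoin h1), h2,
      Groth.Agent.Sga3.H785.HopfCorr.coinv_augIdealSpan
        (isHopfSubalgebra_adjoin h1')]
  refine ⟨t.card, fun i => (t.equivFin.symm i : A), fun i => h1 _ (t.equivFin.symm i).2, ?_⟩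
  rw [← h3]
  apply Algebra.adjoin_mono
  intro x hx
  exact ⟨t.equivFin ⟨x, hx⟩, by simp⟩

end hopf

/-- Linear independence of monomials is algebraic independence. -/
lemma algebraicIndependent_of_mon {k A : Type u} [Field k] [CommRing A] [Algebra k A] {n : ℕ}
    {y : Fin n → A} (h : LinearIndependent k (mon y)) : AlgebraicIndependent k y := by
  have h1 : LinearIndependent k (fun e : Fin n →₀ ℕ => mon y e) :=
    h.comp _ DFunLike.coe_injective
  rw [AlgebraicIndependent, injective_iff_map_eq_zero]
  intro Q hQ
  rw [MvPolynomial.aeval_def, MvPolynomial.eval₂_eq'] at hQ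
  rw [linearIndependent_iff'] at h1
  have h2 := h1 Q.support (fun e => Q.coeff e) (by
    rw [← hQ]
    refine Finset.sum_congr rfl fun e _ => ?_
    rw [Algebra.smul_def]
    rfl)
  ext e
  by_cases he : e ∈ Q.support
  · rw [h2 e he, MvPolynomial.coeff_zero]
  · rw [MvPolynomial.notMem_support_iff.1 he, MvPolynomial.coeff_zero]

/-- **Vector groups.** -/
theorem vector_group (k A : Type u) [Field k] [CommRing A] [HopfAlgebra k A]
    [Coalgebra.IsCocomm k A] [Algebra.FiniteType k A] [IsDomain A] (p : ℕ) [hp : Fact p.Prime]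
    [CharP k p] [PerfectRing k p] (h1 : ∀ a : A, ∃ n, a ∈ soc k A A n)
    (h2 : ∀ a : A, psi k A p a = algebraMap k A (CoalgebraStruct.counit a)) :
    ∃ (n : ℕ) (x : Fin n → A), (∀ i, IsPrim k (x i)) ∧ AlgebraicIndependent k x ∧
      Algebra.adjoin k (Set.range x) = ⊤ := by
  have : IsNoetherianRing A := Algebra.FiniteType.isNoetherianRing k A
  obtain ⟨n₀, x₀, hx₀, hall⟩ := exists_finite_prim (k := k) (A := A)
  obtain ⟨n, y, hy, hB, hrel⟩ := exists_indep p {x : A | IsPrim k x}
    (fun x hx y hy => isPrim_add hx hy) (fun c x hx => isPrim_smul c hx)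
    (fun x hx => isPrim_pow p hx) (fun x hx q hq h => torsionFree p hx hq h)
    (Algebra.adjoin k {x : A | IsPrim k x}) n₀ x₀ hx₀ hall
  have hli := linearIndependent_mon p hy hrel
  exact ⟨n, y, hy, algebraicIndependent_of_mon hli, adjoin_eq_top hy p h1 h2 hli fun x hx =>
    hB (Algebra.subset_adjoin hx)⟩

end Groth.Agent.Agf.H621.VecGrp
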